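/-
Simple groups with at most eleven conjugacy classes: the counting conditions.
-/
import Cfsg.Agent.Known.KC.Defs
import Cfsg.Agent.Blk.Sieve5
import Cfsg.Agent.Char.Burnside
import Cfsg.Agent.Fgs.FixCount
import Cfsg.Agent.Odd.FT
import Cfsg.Agent.S3993

set_option autoImplicit false
set_option linter.unusedSectionVars false

namespace CL.KC

open Finset

variable {G : Type*} [Group G] [Finite G]

/-- Counting the elements whose type has a given property. -/
theorem a_card_ty (P : ℕ → Prop) [DecidablePred P] :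
    Nat.card {g : G // g = 1 ∨ P (ty g)} =
      1 + (((cls G).filter fun a => P a.1).map fun a => Nat.card G / a.2).sum := by
  classical
  let _ := Fintype.ofFinite G
  have h := sum_nt (G := G) (fun g => if g = 1 ∨ P (ty g) then 1 else 0) fun x y h => by
    have : x = 1 ↔ y = 1 := ⟨fun e => isConj_one_right.1 (e ▸ h), fun e => isConj_one_left.1 (e ▸ h)⟩
    rw [ty_conj h]
    simp only [this]
  rw [Nat.card_eq_fintype_card, Fintype.card_subtype, card_filter, h, if_pos (Or.inl rfl), cls, Multiset.filter_map,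
    Multiset.map_map, ← filter_val]
  congr 1
  change _ = ∑ K ∈ (nt G).filter _, _
  rw [sum_filter]
  refine sum_congr rfl fun K hK => ?_
  simp [mem_nt.1 hK]

theorem a_orderOf_dvd_cc (x : G) : orderOf x ∣ cc x :=
  Subgroup.orderOf_dvd_natCard _ (Subgroup.mem_centralizer_singleton_iff.2 rfl)

variable [IsSimpleGroup G] (hG : ¬ IsMulCommutative G)
include hG

theorem a_not_solvable : ¬ Group.IsSolvable G := fun h => hG ⟨⟨IsSimpleGroup.comm_iff_isSolvable.2 h⟩⟩

theorem a_even : 2 ∣ Nat.card G := by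
  by_contra h
  exact a_not_solvable hG (CL.Odd.feit_thompson (Nat.odd_iff.2 (by omega)))

theorem a_four : 4 ∣ Nat.card G := by
  refine CL.Fgs.four_dvd_card_of_perfect ((inferInstance : (commutator G).Normal).eq_bot_or_eq_top.resolve_left
    fun e => hG ⟨⟨fun a b => commutatorElement_eq_one_iff_mul_comm.1 (Subgroup.mem_bot.1 ?_)⟩⟩) (a_even hG)
  exact e ▸ Subgroup.commutator_mem_commutator (Subgroup.mem_top a) (Subgroup.mem_top b)

theorem a_big : ∃ p, p.Prime ∧ 5 ≤ p ∧ p ∣ Nat.card G := by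
  by_contra h
  push Not at h
  refine a_not_solvable hG (CL.Char.isSolvable_of_two_primes Nat.prime_two Nat.prime_three fun r hr hd => ?_)
  have h1 : r < 5 := by
    by_contra h1
    exact h r hr (by omega) hd
  have h2 := hr.two_le
  interval_cases r
  · exact Or.inl rfl
  · exact Or.inr rfl
  · exact absurd hr (by decide)

theorem a_index {H : Subgroup G} (hH : H ≠ ⊤) : 5 ≤ H.index := by
  obtain ⟨p, hp, h5, hd⟩ := a_big hG
  have h1 : H.normalCore = ⊥ := (inferInstance : H.normalCore.Normal).eq_bot_or_eq_top.resolve_right fun e =>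
    hH (eq_top_iff.2 (e ▸ H.normalCore_le))
  have h2 : H.normalCore.index ∣ H.index.factorial := by
    rw [Subgroup.normalCore_eq_ker, Subgroup.index_ker, Subgroup.index_eq_card, ← Nat.card_perm]
    exact Subgroup.card_subgroup_dvd_card _
  rw [h1, Subgroup.index_bot] at h2
  exact h5.trans ((hp.dvd_factorial).1 (hd.trans h2))

theorem a_cent {x : G} (hx : x ≠ 1) : Subgroup.centralizer ({x} : Set G) ≠ ⊤ := fun e => by
  have h1 : x ∈ Subgroup.center G := Subgroup.mem_center_iff.2 fun g =>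
    Subgroup.mem_centralizer_singleton_iff.1 (e ▸ Subgroup.mem_top g)
  rcases (inferInstance : (Subgroup.center G).Normal).eq_bot_or_eq_top with e | e
  · exact hx (Subgroup.mem_bot.1 (e ▸ h1))
  · exact hG ⟨⟨fun a b => Subgroup.mem_center_iff.1 (e ▸ Subgroup.mem_top b) a⟩⟩

theorem a_two {x : G} (hx : x ≠ 1) (h : ty x = 2) : 4 ∣ cc x := by
  have : Fact (Nat.Prime 2) := ⟨Nat.prime_two⟩
  obtain ⟨k, hk⟩ := (ty_eq_prime_iff Nat.prime_two).1 h
  obtain ⟨S, hS⟩ := (IsPGroup.of_card (G := Subgroup.zpowers x) ((Nat.card_zpowers x).trans hk)).exists_le_sylow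
  have hxS : x ∈ S := hS (Subgroup.mem_zpowers x)
  by_cases h1 : (S : Subgroup G) ≤ Subgroup.centralizer {x}
  · exact (S.pow_dvd_card_of_pow_dvd_card (n := 2) (a_four hG)).trans (Subgroup.card_dvd_of_le h1)
  have : Nontrivial S := ⟨⟨x, hxS⟩, 1, fun e => hx (congrArg Subtype.val e)⟩
  have := S.isPGroup'.center_nontrivial
  obtain ⟨⟨z, hz⟩, hz1⟩ := exists_ne (1 : Subgroup.center S)
  have hc : ∀ g ∈ (S : Subgroup G), g * z = z * g := fun g hg =>
    congrArg Subtype.val (Subgroup.mem_center_iff.1 hz ⟨g, hg⟩)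
  let C : Subgroup G := S ⊓ Subgroup.centralizer {x}
  obtain ⟨j, hj⟩ := IsPGroup.iff_card.1 (S.isPGroup'.to_inf_left : IsPGroup 2 C)
  have h2 : 2 < Nat.card C := by
    let _ := Fintype.ofFinite C
    rw [Nat.card_eq_fintype_card, Fintype.two_lt_card_iff]
    refine ⟨1, ⟨x, hxS, Subgroup.mem_centralizer_singleton_iff.2 rfl⟩,
      ⟨z, z.2, Subgroup.mem_centralizer_singleton_iff.2 (hc x hxS).symm⟩, fun e => hx (congrArg Subtype.val e).symm,
      fun e => hz1 (Subtype.ext (Subtype.ext (congrArg Subtype.val e).symm)), fun e => h1 fun g hg => ?_⟩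
    rw [show x = z from congrArg Subtype.val e]
    exact Subgroup.mem_centralizer_singleton_iff.2 (hc g hg)
  refine Dvd.dvd.trans ?_ (Subgroup.card_dvd_of_le (inf_le_right : C ≤ _))
  rw [hj] at h2 ⊢
  exact pow_dvd_pow 2 (show 2 ≤ j from (Nat.pow_lt_pow_iff_right one_lt_two).1 h2)

omit [IsSimpleGroup G] hG in
theorem a_pow {d : ℕ} (hd : d ∣ Nat.card G) (hc : d.Coprime (Nat.card G / d)) (g : G) :
    g ^ d = 1 ↔ g = 1 ∨ ty g ∣ d := by
  rw [← orderOf_dvd_iff_pow_eq_one]
  refine ⟨fun h => Or.inr ((ty_dvd g).trans h), ?_⟩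
  rintro (rfl | h)
  · simp
  · refine Nat.Coprime.dvd_of_dvd_mul_right (n := Nat.card G / d) (Nat.Coprime.symm ?_) ?_
    · refine Nat.coprime_of_dvd fun r hr h1 h2 => hr.one_lt.ne' ?_
      exact Nat.eq_one_of_dvd_coprimes hc (((prime_dvd_ty hr).2 h2).trans h) h1
    · rw [Nat.mul_div_cancel' hd]; exact orderOf_dvd_natCard g

theorem a_norm {r : ℕ} (hr : r.Prime) (hd : r ∣ Nat.card G) (P : Sylow r G) :
    Nat.card P < Nat.card {g : G // g = 1 ∨ ty g = r} := by
  have : Fact r.Prime := ⟨hr⟩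
  have hP : (P : Set G) ⊆ {g : G | g = 1 ∨ ty g = r} := fun g hg => by
    obtain ⟨k, hk⟩ := IsPGroup.iff_orderOf.1 P.isPGroup' ⟨g, hg⟩
    rw [Subgroup.orderOf_mk] at hk
    rcases k with _ | k
    · exact Or.inl (orderOf_eq_one_iff.1 hk)
    · exact Or.inr ((ty_eq_prime_iff hr).2 ⟨k, hk⟩)
  refine Set.ncard_lt_ncard (hP.ssubset_of_ne fun e => ?_)
  have hn : (P : Subgroup G).Normal := ⟨fun x hx g => by
    have h1 : x ∈ {g : G | g = 1 ∨ ty g = r} := hP hx
    have h2 : g * x * g⁻¹ ∈ {g : G | g = 1 ∨ ty g = r} :=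
      h1.imp (fun e => by simp [e]) fun e => (ty_conj (isConj_iff.2 ⟨g, rfl⟩)).symm.trans e
    rwa [← e] at h2⟩
  rcases hn.eq_bot_or_eq_top with e | e
  · exact P.ne_bot_of_dvd_card hd e
  · have h1 := (P.isPGroup'.of_equiv ((MulEquiv.subgroupCongr e).trans Subgroup.topEquiv)).isNilpotent
    exact a_not_solvable hG inferInstance

theorem dataA (hk : Nat.card (ConjClasses G) ≤ 11) (h5 : ∀ x : G, 5 ≤ cc x) : DataA (Nat.card G) (cls G) where
  card := by have := card_cls (G := G); omega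
  sum := by
    have := a_card_ty (G := G) fun _ => True
    rw [Multiset.filter_true] at this
    rw [← this]
    exact Nat.card_congr (Equiv.subtypeUnivEquiv fun _ => Or.inr trivial)
  dvd := fun a ha => by
    obtain ⟨x, -, rfl⟩ := mem_cls.1 ha
    exact cc_dvd x
  typ := fun a ha => by
    obtain ⟨x, hx, rfl⟩ := mem_cls.1 ha
    exact ⟨(ty_dvd x).trans (a_orderOf_dvd_cc x), one_lt_ty hx, squarefree_ty x⟩
  five := fun a ha => by
    obtain ⟨x, hx, rfl⟩ := mem_cls.1 ha
    refine ⟨h5 x, ?_⟩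
    rw [← (Subgroup.centralizer ({x} : Set G)).index_mul_card]
    exact Nat.mul_le_mul_right _ (a_index hG (a_cent hG hx))
  two := fun a ha => by
    obtain ⟨x, hx, rfl⟩ := mem_cls.1 ha
    exact a_two hG hx
  prime := fun r hr hd => by
    have : Fact r.Prime := ⟨hr⟩
    obtain ⟨x, hx⟩ := exists_prime_orderOf_dvd_card' r hd
    exact cnt_pos_iff.2 ⟨x, fun e => hr.one_lt.ne (by rw [← hx, e, orderOf_one]),
      (ty_eq_prime_iff hr).2 ⟨0, by simpa using hx⟩⟩
  even := a_even hG
  big := a_big hG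
  frob := fun d hd hc => by
    rw [← a_card_ty (G := G) fun n => n ∣ d, ← Nat.card_congr (Equiv.subtypeEquivRight (a_pow hd hc))]
    exact Cfsg.Agent.S3993.result d hd
  norm := fun r k q hr hd h1 h2 => by
    have : Fact r.Prime := ⟨hr⟩
    obtain ⟨j, -, rfl⟩ := (Nat.dvd_prime_pow hr).1 h2
    obtain ⟨P⟩ : Nonempty (Sylow r G) := inferInstance
    rw [← a_card_ty (G := G) fun n => n = r]
    exact (Nat.le_of_dvd Nat.card_pos (P.pow_dvd_card_of_pow_dvd_card h1)).trans_lt (a_norm hG hr hd P)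
  small := CL.Blk.Sieve.card_mem_of_lt hG

end CL.KC
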