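/-
Simple groups with at most eleven conjugacy classes: the search program for the class equation.
-/
import Cfsg.Agent.Known.KC.Defs

set_option autoImplicit false

namespace CL.KC

noncomputable section

def band (a b : Bool) : Bool := Bool.rec false b a
def bor (a b : Bool) : Bool := Bool.rec b true a
def imp (a b : Bool) : Bool := Bool.rec true b a
def bnot (a : Bool) : Bool := Bool.rec true false a
def sel {α : Type} (a : Bool) (x y : α) : α := Bool.rec y x a
def frc (x : ℕ) (k : ℕ → Bool) : Bool := Nat.rec (motive := fun _ => Bool) (k 0) (fun n _ => k (Nat.succ n)) x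
def frcL (l : List ℕ) : (List ℕ → Bool) → Bool :=
  List.rec (motive := fun _ => (List ℕ → Bool) → Bool) (fun k => k [])
    (fun x _ ih k => frc x fun y => ih fun m => k (y :: m)) l
def all {α : Type} (f : α → Bool) (l : List α) : Bool :=
  List.rec (motive := fun _ => Bool) true (fun a _ ih => Bool.rec false ih (f a)) l
def any {α : Type} (f : α → Bool) (l : List α) : Bool :=
  List.rec (motive := fun _ => Bool) false (fun a _ ih => Bool.rec ih true (f a)) l
def flt {α : Type} (f : α → Bool) (l : List α) : List α :=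
  List.rec (motive := fun _ => List α) [] (fun a _ ih => Bool.rec ih (a :: ih) (f a)) l
def sm {α : Type} (f : α → ℕ) (l : List α) : ℕ :=
  List.rec (motive := fun _ => ℕ) 0 (fun a _ ih => Nat.add (f a) ih) l
def dv (a b : ℕ) : Bool := Nat.beq (Nat.mod b a) 0
def mem (x : ℕ) (l : List ℕ) : Bool := any (Nat.beq x) l
def mx (a b : ℕ) : ℕ := sel (Nat.ble a b) b a
def ct (x : ℕ) (l : List ℕ) : ℕ := sm (fun y => sel (Nat.beq x y) 1 0) l
/-- `f` holds for all members, repetitions being skipped -/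
def allD (f : ℕ → Bool) (l : List ℕ) : Bool :=
  List.rec (motive := fun _ => Bool) true (fun a t ih => band (bor (mem a t) (f a)) ih) l
def dedup (l : List ℕ) : List ℕ :=
  List.rec (motive := fun _ => List ℕ) [] (fun a t ih => sel (mem a t) ih (a :: ih)) l
/-- the `r`-part -/
def part (r c : ℕ) : ℕ := Nat.gcd c (Nat.pow r (Nat.log2 c))

/-- The static information on a type. -/
structure Info where
  t : ℕ
  lb : ℕ
  md : ℕ
  sq : ℕ
  pf : List ℕ
  kd : List ℕ

def eraseK (t : ℕ) (T : List Info) : (List Info → Bool) → Bool :=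
  List.rec (motive := fun _ => (List Info → Bool) → Bool) (fun k => k [])
    (fun x s ih k => Bool.rec (ih fun m => k (x :: m)) (k s) (Nat.beq x.t t)) T
def allT (f : Info → Bool) (T : List Info) : ℕ → Bool :=
  List.rec (motive := fun _ => ℕ → Bool) (fun _ => true)
    (fun x _ ih p => band (bor (Nat.beq x.t p) (f x)) (ih x.t)) T
def memT (t : ℕ) (T : List Info) : Bool := any (fun x => Nat.beq x.t t) T

def loop (F : ℕ → Bool) (r hi : ℕ) (k : ℕ) : ℕ → Bool :=
  Nat.rec (motive := fun _ => ℕ → Bool) (fun b => Nat.blt hi b)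
    (fun _ ih b => imp (Nat.ble b hi) (band (F b) (frc (Nat.mul b r) ih))) k
def gen2 (F : ℕ → Bool) (hi : ℕ) (l : List ℕ) : ℕ → Bool :=
  List.rec (motive := fun _ => ℕ → Bool) F (fun r _ ih => loop ih r hi 200) l
def parts (t r : ℕ) (P : List (ℕ × ℕ)) : List ℕ :=
  List.rec (motive := fun _ => List ℕ) [] (fun a _ ih => sel (Nat.beq a.1 t) (part r a.2 :: ih) ih) P
def gen1 (F : ℕ → Bool) (hi t : ℕ) (P : List (ℕ × ℕ)) (l : List ℕ) : ℕ → Bool :=
  List.rec (motive := fun _ => ℕ → Bool) F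
    (fun r _ ih b => band (ih b) (frc (Nat.mul t r) fun s => frcL (parts s r P) fun w =>
      allD (fun z => frc (Nat.mul b z) fun b' => imp (Nat.ble b' hi) (ih b')) w)) l

def kidOK (x : Info) (P : List (ℕ × ℕ)) (c : ℕ) : Bool :=
  all (fun r => imp (dv r c) (any (fun b => band (Nat.beq b.1 (Nat.mul x.t r))
    (band (dv b.2 c) (bnot (dv r (Nat.div c b.2))))) P)) x.kd
def sylOK (t : ℕ) (S : List (ℕ × ℕ)) (c : ℕ) : Bool :=
  all (fun s => band (bnot (dv (Nat.mul s.1 s.1) c)) (imp (Nat.beq s.1 t) (Nat.beq s.2 c))) S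
def sixOK (t3 t : ℕ) (P : List (ℕ × ℕ)) (c : ℕ) : Bool :=
  imp (Nat.beq c 6) (imp (Nat.beq t 6)
    (Nat.blt (sm (fun b => sel (band (Nat.beq b.1 6) (Nat.beq b.2 6)) 1 0) P) t3))
def lastOK (ps : List ℕ) (t : ℕ) (P : List (ℕ × ℕ)) (c : ℕ) : Bool :=
  all (fun a => imp (dv t a.1) (imp (mem (Nat.div a.1 t) ps)
    (bor (dv a.2 c) (any (fun b => band (Nat.beq b.1 t) (dv a.2 b.2)) P)))) P
def parOK (x : Info) (T : List Info) : Bool :=
  all (fun r => bor (Nat.beq x.t r) (memT (Nat.div x.t r) T)) x.pf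

/-- The state of the second search. -/
abbrev Nd := List Info → List (ℕ × ℕ) → List (ℕ × ℕ) → ℕ → ℕ → ℕ → ℕ → Bool

def tryC (ps : List ℕ) (t3 : ℕ) (ih : Nd) (x : Info) (T : List Info) (more : Bool) (P S : List (ℕ × ℕ))
    (n d lo c : ℕ) : Bool :=
  imp (Nat.ble lo c) (imp (kidOK x P c) (imp (sylOK x.t S c) (imp (sixOK t3 x.t P c)
    (imp (bor more (lastOK ps x.t P c))
      (frc (Nat.sub (Nat.mul n c) d) fun n' => frc (Nat.mul d c) fun d' => frc (Nat.gcd n' d') fun e =>
        frc (Nat.div n' e) fun n'' => frc (Nat.div d' e) fun d'' =>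
          Bool.rec (imp (all (fun b => bnot (dv x.sq b.2)) P) (ih T ((x.t, c) :: P) ((x.t, c) :: S) n'' d'' c x.t))
            (ih T ((x.t, c) :: P) S n'' d'' c x.t) (dv x.sq c))))))

def node2 (ps : List ℕ) (t3 : ℕ) (leaf : ℕ → List (ℕ × ℕ) → Bool) (f : ℕ) : Nd :=
  Nat.rec (motive := fun _ => Nd) (fun _ P _ n d _ _ => imp (dv n d) (frc (Nat.div d n) fun g => leaf g P))
    (fun f ih T P S n d lc lt => frc (Nat.mul d 65536) fun D =>
      imp (Nat.ble (Nat.mul n 65536) (Nat.add (sm (fun x => Nat.succ (Nat.div D (mx lc x.lb))) T)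
        (Nat.succ (Nat.div D (Nat.mul 5 lc)))))
      (frc (Nat.div (Nat.mul (Nat.add (Nat.mul 5 f) 6) d) (Nat.mul 5 n)) fun hi =>
        frc (Nat.succ (Nat.div d n)) fun l0 =>
        allT (fun x => frc (mx (mx l0 x.lb) (sel (Nat.blt lt x.t) (Nat.succ lc) lc)) fun lo =>
          imp (Nat.ble lo hi) (eraseK x.t T fun T' => imp (parOK x T')
            (Bool.rec (gen1 (gen2 (tryC ps t3 ih x T' false P S n d lo) hi x.pf) hi x.t P x.kd x.md)
              (gen1 (gen2 (tryC ps t3 ih x T' true P S n d lo) hi x.pf) hi x.t P x.kd x.md) (memT x.t T')))) T 0)) f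

def eqP (P : List (ℕ × ℕ)) : List (ℕ × ℕ) → Bool :=
  List.rec (motive := fun _ => List (ℕ × ℕ) → Bool)
    (fun Q => List.rec (motive := fun _ => Bool) true (fun _ _ _ => false) Q)
    (fun a _ ih Q => List.rec (motive := fun _ => Bool) false
      (fun b t _ => band (Nat.beq a.1 b.1) (band (Nat.beq a.2 b.2) (ih t))) Q) P

def halls (g : ℕ) (ps : List ℕ) : List ℕ :=
  List.rec (motive := fun _ => List ℕ) [1] (fun r _ ih => ih ++ ih.map (Nat.mul (part r g))) ps

def leaf2 (sv : List (ℕ × List (ℕ × ℕ))) (ps : List ℕ) (g : ℕ) (P : List (ℕ × ℕ)) : Bool :=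
  imp (all (fun a => dv a.2 g) P)
    (imp (all (fun d => imp (dv d g) (imp (Nat.beq (Nat.gcd d (Nat.div g d)) 1)
      (dv d (Nat.succ (sm (fun a => sel (dv a.1 d) (Nat.div g a.2) 0) P))))) (halls g ps))
    (imp (all (fun r => Nat.blt (part r g) (Nat.succ (sm (fun a => sel (Nat.beq a.1 r) (Nat.div g a.2) 0) P))) ps)
    (imp (bor (Nat.ble 7200 g) (mem g [60, 168, 360, 504, 660, 1092, 2448, 2520, 3420, 4080, 5616, 6048, 6072]))
      (bor (Nat.beq g 2520) (any (fun s => band (Nat.beq s.1 g) (eqP s.2 P)) sv)))))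

/-- `t` classes of elements of order `p` are possible for a Sylow subgroup of order `p` -/
def tOK (p t : ℕ) : Bool :=
  band (dv t (Nat.sub p 1)) (band (Nat.blt t (Nat.sub p 1)) (Nat.ble (Nat.add (Nat.div (Nat.sub p 1) t) t) 11))

def infoK (L ps : List ℕ) (t : ℕ) (k : Info → Bool) : Bool :=
  frcL (flt (fun r => dv r t) ps) fun pf =>
  frcL (flt (fun r => band (bnot (dv r t)) (mem (Nat.mul t r) L)) ps) fun kd =>
  Bool.rec
    (Bool.rec (k ⟨t, t, t, 1, pf, kd⟩)
      (frc (Nat.mul t t) fun sq => Bool.rec (k ⟨t, sq, sq, sq, pf, kd⟩)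
        (frc (sel (bor (Nat.beq t 3) (any (fun _ => true) kd)) (Nat.mul 2 t) t) fun lb => k ⟨t, lb, t, sq, pf, kd⟩)
        (tOK t (ct t L))) (mem t ps))
    (k ⟨2, 8, 4, 1, pf, kd⟩) (Nat.beq t 2)

def infosK (L ps : List ℕ) (l : List ℕ) : (List Info → Bool) → Bool :=
  List.rec (motive := fun _ => (List Info → Bool) → Bool) (fun k => k [])
    (fun t _ ih k => infoK L ps t fun x => ih fun m => k (x :: m)) l

def root2 (sv : List (ℕ × List (ℕ × ℕ))) (L ps : List ℕ) (len : ℕ) : Bool :=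
  frc (ct 3 L) fun t3 => infosK L ps L fun T =>
    node2 ps t3 (leaf2 sv ps) len T [] [] 1 1 5 5

/-! The first search. -/

def prOf (L : List ℕ) : List ℕ := flt (fun y => all (fun z => bor (Nat.beq z y) (bnot (dv z y))) L) L

def pws (r k : ℕ) : List ℕ := Nat.rec (motive := fun _ => List ℕ) [] (fun j ih => Nat.pow r (Nat.succ j) :: ih) k

def mulL (s t : List ℕ) : List ℕ :=
  List.rec (motive := fun _ => List ℕ) []
    (fun z _ ih => List.rec (motive := fun _ => List ℕ) ih (fun w _ ih' => Nat.mul z w :: ih') t) s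

def app (s t : List ℕ) : List ℕ := List.rec (motive := fun _ => List ℕ) t (fun z _ ih => z :: ih) s

/-- the numbers with the prime divisors of `y` and bounded exponents -/
def exps (L : List ℕ) (y : ℕ) (ps : List ℕ) : List ℕ :=
  List.rec (motive := fun _ => List ℕ) [1] (fun r _ ih => sel (dv r y) (mulL (pws r (ct r L)) ih) ih) ps

def allE (L ps l : List ℕ) : List ℕ :=
  List.rec (motive := fun _ => List ℕ) [1] (fun y t ih => sel (mem y t) ih (app (exps L y ps) ih)) l

def w0 (x : ℕ) : ℕ := Nat.succ (Nat.div 1000000 (sel (Nat.beq x 2) 8 (sel (Nat.beq x 3) 6 x)))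

def massOK (W f x : ℕ) : Bool :=
  Nat.ble 1000000 (Nat.add (Nat.add W (w0 x)) (Nat.mul f (Nat.succ (Nat.div 1000000 (mx x 5)))))

def upTo (n : ℕ) : List ℕ := Nat.rec (motive := fun _ => List ℕ) [] (fun k ih => Nat.succ k :: ih) n

def mulS (s t : List ℕ) : List ℕ :=
  List.rec (motive := fun _ => List ℕ) []
    (fun z _ ih => List.rec (motive := fun _ => List ℕ) ih (fun w _ ih' => Nat.succ (Nat.mul w z) :: ih') t) s

def candK (L pr E : List ℕ) (h W f : ℕ) (k : List ℕ → Bool) : Bool :=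
  frcL (mulL (dedup L) pr) fun c1 => frcL E fun E' => frcL (upTo (Nat.succ f)) fun U => frcL (mulS E' U) fun c2 =>
  frcL (app
    (flt (fun x => band (Nat.blt h x) (band (massOK W f x)
      (all (fun q => imp (dv q x) (band (mem (Nat.div x q) L) (bnot (dv q (Nat.div x q))))) pr))) c1)
    (flt (fun x => band (Nat.blt h x) (band (massOK W f x) (all (fun q => bor (Nat.beq q x) (bnot (dv q x)))
      [2, 3, 5, 7, 11, 13, 17, 19, 23, 29, 31, 37, 41, 43, 47, 53, 59, 61, 67, 71, 73, 79, 83, 89, 97, 101, 103, 107,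
        109, 113, 127]))) c2)) k

def eqL (P : List ℕ) : List ℕ → Bool :=
  List.rec (motive := fun _ => List ℕ → Bool)
    (fun Q => List.rec (motive := fun _ => Bool) true (fun _ _ _ => false) Q)
    (fun a _ ih Q => List.rec (motive := fun _ => Bool) false (fun b t _ => band (Nat.beq a b) (ih t)) Q) P

/-- The common part of a node of the first search: `L = h :: _`, `f` free places. -/
def body1 (sv : List (ℕ × List (ℕ × ℕ))) (f h : ℕ) (L : List ℕ) (k : List ℕ → List ℕ → ℕ → Bool → Bool) : Bool :=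
  frcL (dedup (prOf L)) fun pr => frc (Nat.add 16667 (sm w0 L)) fun W =>
  Bool.rec (k pr (allE L pr L) W false)
    (band (imp (Nat.ble f 2) (imp (Nat.ble 1000000 W) (imp (any (Nat.ble 5) pr) (root2 sv L pr (Nat.sub 10 f)))))
      (k pr (allE L pr L) W true))
    (imp (mem h pr) (any (fun e => band (dv e (Nat.sub h 1)) (Nat.ble (Nat.div (Nat.sub h 1) e) (ct h L)))
      (allE L pr L)))

def node1 (sv : List (ℕ × List (ℕ × ℕ))) (cut : List (List ℕ)) (f : ℕ) : ℕ → List ℕ → Bool :=
  Nat.rec (motive := fun _ => ℕ → List ℕ → Bool)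
    (fun h L => bor (any (eqL L) cut) (body1 sv 0 h L fun _ _ _ _ => true))
    (fun f ih h L => bor (any (eqL L) cut) (body1 sv (Nat.succ f) h L fun pr E W a =>
      band (imp (massOK W f h) (ih h (h :: L)))
        (imp a (candK L pr E h W f (allD fun x => ih x (x :: L)))))) f

end

end CL.KC
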