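/-
Simple groups with at most eleven conjugacy classes: the class lists that survive the class equation.
-/
import Cfsg.Agent.Known.KC.S1

namespace CL.KC

/-- The surviving class lists. -/
def sv : List (ℕ × List (ℕ × ℕ)) := [(58320, [(3, 729), (2, 16), (2, 16), (2, 16), (3, 9), (2, 8), (2, 8), (2, 8), (2, 8), (5, 5)]),
  (21504, [(2, 3072), (2, 128), (2, 64), (2, 8), (2, 8), (2, 8), (2, 8), (7, 7), (3, 6), (6, 6)]),
  (21504, [(2, 1024), (2, 512), (2, 48), (2, 8), (2, 8), (2, 8), (2, 8), (7, 7), (3, 6), (6, 6)]),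
  (21504, [(2, 3072), (2, 384), (2, 48), (2, 8), (2, 8), (2, 8), (2, 8), (7, 7), (3, 6), (6, 6)]),
  (21504, [(2, 1024), (2, 512), (2, 16), (2, 12), (2, 8), (2, 8), (2, 8), (7, 7), (3, 6), (6, 6)]),
  (21504, [(2, 3072), (2, 384), (2, 16), (2, 12), (2, 8), (2, 8), (2, 8), (7, 7), (3, 6), (6, 6)]),
  (30720, [(2, 2048), (2, 128), (2, 48), (2, 16), (2, 8), (2, 8), (2, 8), (3, 6), (6, 6), (5, 5)]),
  (491520, [(2, 32768), (2, 2048), (2, 128), (2, 12), (2, 8), (2, 8), (2, 8), (3, 6), (6, 6), (5, 5)]),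
  (30720, [(2, 6144), (2, 3072), (2, 128), (2, 12), (2, 8), (2, 8), (2, 8), (3, 6), (6, 6), (5, 5)]),
  (30720, [(2, 2048), (2, 256), (2, 256), (2, 12), (2, 8), (2, 8), (2, 8), (3, 6), (6, 6), (5, 5)]),
  (30720, [(2, 2048), (2, 384), (2, 192), (2, 12), (2, 8), (2, 8), (2, 8), (3, 6), (6, 6), (5, 5)]),
  (30720, [(2, 2048), (2, 128), (2, 24), (2, 24), (2, 8), (2, 8), (2, 8), (3, 6), (6, 6), (5, 5)]),
  (30720, [(2, 2048), (2, 128), (2, 16), (2, 16), (2, 12), (2, 8), (2, 8), (3, 6), (6, 6), (5, 5)]),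
  (30720, [(2, 2048), (2, 128), (2, 24), (2, 12), (2, 12), (2, 8), (2, 8), (3, 6), (6, 6), (5, 5)]),
  (30720, [(2, 2048), (2, 128), (2, 12), (2, 12), (2, 12), (2, 12), (2, 8), (3, 6), (6, 6), (5, 5)]),
  (4723920, [(3, 59049), (3, 729), (2, 16), (3, 9), (2, 8), (2, 8), (2, 8), (2, 8), (2, 8), (5, 5)]),
  (58320, [(3, 729), (2, 16), (3, 9), (2, 8), (2, 8), (2, 8), (2, 8), (2, 8), (5, 5)]),
  (174960, [(3, 2187), (3, 27), (2, 16), (2, 16), (2, 16), (2, 8), (2, 8), (2, 8), (5, 5), (5, 5)]),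
  (86016, [(2, 12288), (2, 512), (2, 256), (2, 8), (2, 8), (2, 8), (7, 7), (7, 7), (3, 6), (6, 6)]),
  (86016, [(2, 4096), (2, 2048), (2, 192), (2, 8), (2, 8), (2, 8), (7, 7), (7, 7), (3, 6), (6, 6)]),
  (86016, [(2, 12288), (2, 1536), (2, 192), (2, 8), (2, 8), (2, 8), (7, 7), (7, 7), (3, 6), (6, 6)]),
  (92160, [(2, 3072), (2, 2048), (2, 512), (3, 18), (2, 8), (2, 8), (2, 8), (6, 6), (5, 5), (5, 5)]),
  (92160, [(2, 6144), (2, 1536), (2, 512), (3, 18), (2, 8), (2, 8), (2, 8), (6, 6), (5, 5), (5, 5)]),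
  (92160, [(2, 2048), (2, 1024), (2, 768), (3, 18), (2, 8), (2, 8), (2, 8), (6, 6), (5, 5), (5, 5)]),
  (92160, [(2, 6144), (2, 768), (2, 768), (3, 18), (2, 8), (2, 8), (2, 8), (6, 6), (5, 5), (5, 5)]),
  (92160, [(2, 6144), (2, 384), (3, 18), (2, 16), (2, 16), (2, 8), (2, 8), (6, 6), (5, 5), (5, 5)]),
  (92160, [(2, 6144), (2, 384), (2, 24), (3, 18), (2, 12), (2, 8), (2, 8), (6, 6), (5, 5), (5, 5)]),
  (92160, [(2, 6144), (2, 384), (3, 18), (2, 12), (2, 12), (2, 12), (2, 8), (6, 6), (5, 5), (5, 5)]),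
  (30720, [(2, 2048), (2, 128), (2, 12), (2, 8), (2, 8), (2, 8), (3, 6), (6, 6), (5, 5)]),
  (40320, [(2, 128), (2, 48), (2, 32), (3, 18), (2, 8), (2, 8), (2, 8), (7, 7), (6, 6), (5, 5)]),
  (40320, [(2, 384), (2, 64), (2, 24), (3, 18), (2, 8), (2, 8), (2, 8), (7, 7), (6, 6), (5, 5)]),
  (40320, [(2, 128), (2, 96), (2, 24), (3, 18), (2, 8), (2, 8), (2, 8), (7, 7), (6, 6), (5, 5)]),
  (40320, [(2, 128), (2, 32), (3, 18), (2, 16), (2, 12), (2, 8), (2, 8), (7, 7), (6, 6), (5, 5)]),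
  (40320, [(2, 384), (2, 64), (3, 18), (2, 12), (2, 12), (2, 8), (2, 8), (7, 7), (6, 6), (5, 5)]),
  (40320, [(2, 128), (2, 96), (3, 18), (2, 12), (2, 12), (2, 8), (2, 8), (7, 7), (6, 6), (5, 5)]),
  (14171760, [(3, 177147), (3, 2187), (3, 27), (2, 16), (2, 8), (2, 8), (2, 8), (2, 8), (5, 5), (5, 5)]),
  (174960, [(3, 2187), (3, 27), (2, 16), (2, 8), (2, 8), (2, 8), (2, 8), (5, 5), (5, 5)]),
  (349920, [(3, 4374), (2, 96), (3, 54), (2, 16), (2, 8), (2, 8), (2, 8), (6, 6), (6, 6), (5, 5)]),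
  (349920, [(3, 4374), (3, 54), (2, 32), (2, 24), (2, 8), (2, 8), (2, 8), (6, 6), (6, 6), (5, 5)]),
  (349920, [(3, 4374), (3, 54), (2, 32), (2, 12), (2, 12), (2, 8), (2, 8), (6, 6), (6, 6), (5, 5)]),
  (75600, [(3, 54), (5, 25), (2, 16), (2, 12), (3, 9), (2, 8), (2, 8), (2, 8), (7, 7), (6, 6)]),
  (75600, [(3, 54), (2, 48), (5, 25), (3, 9), (2, 8), (2, 8), (2, 8), (2, 8), (7, 7), (6, 6)]),
  (168, [(2, 24), (2, 12), (2, 12), (2, 12), (2, 12), (3, 12), (6, 12), (7, 7), (7, 7), (6, 6)]),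
  (168, [(2, 24), (2, 24), (2, 12), (2, 12), (3, 12), (6, 12), (2, 8), (7, 7), (7, 7), (6, 6)]),
  (168, [(2, 24), (2, 24), (2, 24), (3, 12), (6, 12), (2, 8), (2, 8), (7, 7), (7, 7), (6, 6)]),
  (10752, [(2, 1536), (2, 192), (3, 12), (6, 12), (2, 8), (2, 8), (2, 8), (7, 7), (7, 7), (6, 6)]),
  (258048, [(2, 4096), (2, 64), (3, 18), (2, 12), (2, 8), (2, 8), (7, 7), (7, 7), (7, 7), (6, 6)]),
  (92160, [(2, 6144), (2, 384), (3, 18), (2, 8), (2, 8), (2, 8), (6, 6), (5, 5), (5, 5)]),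
  (15360, [(2, 1024), (2, 64), (2, 12), (2, 12), (2, 12), (3, 12), (6, 12), (6, 6), (5, 5), (5, 5)]),
  (15360, [(2, 1024), (2, 64), (2, 24), (2, 12), (3, 12), (6, 12), (2, 8), (6, 6), (5, 5), (5, 5)]),
  (15360, [(2, 3072), (2, 1536), (2, 64), (3, 12), (6, 12), (2, 8), (2, 8), (6, 6), (5, 5), (5, 5)]),
  (15360, [(2, 1024), (2, 192), (2, 96), (3, 12), (6, 12), (2, 8), (2, 8), (6, 6), (5, 5), (5, 5)]),
  (293760, [(2, 128), (3, 27), (17, 17), (17, 17), (2, 16), (2, 8), (2, 8), (2, 8), (5, 5), (5, 5)]),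
  (20160, [(2, 64), (2, 32), (2, 32), (2, 16), (2, 16), (3, 9), (7, 7), (7, 7), (5, 5), (5, 5)]),
  (20160, [(2, 64), (2, 64), (2, 64), (2, 32), (3, 9), (2, 8), (7, 7), (7, 7), (5, 5), (5, 5)]),
  (16320, [(2, 64), (2, 24), (2, 24), (17, 17), (17, 17), (2, 8), (2, 8), (3, 6), (6, 6), (5, 5)]),
  (16320, [(2, 192), (2, 32), (17, 17), (17, 17), (2, 16), (2, 8), (2, 8), (3, 6), (6, 6), (5, 5)]),
  (16320, [(2, 64), (2, 48), (17, 17), (17, 17), (2, 16), (2, 8), (2, 8), (3, 6), (6, 6), (5, 5)]),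
  (4177920, [(2, 16384), (2, 64), (17, 17), (17, 17), (2, 12), (2, 8), (2, 8), (3, 6), (6, 6), (5, 5)]),
  (16320, [(2, 192), (2, 96), (17, 17), (17, 17), (2, 12), (2, 8), (2, 8), (3, 6), (6, 6), (5, 5)]),
  (16320, [(2, 64), (17, 17), (17, 17), (2, 16), (2, 16), (2, 12), (2, 8), (3, 6), (6, 6), (5, 5)]),
  (16320, [(2, 64), (2, 24), (17, 17), (17, 17), (2, 12), (2, 12), (2, 8), (3, 6), (6, 6), (5, 5)]),
  (16320, [(2, 64), (17, 17), (17, 17), (2, 12), (2, 12), (2, 12), (2, 12), (3, 6), (6, 6), (5, 5)]),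
  (7920, [(3, 18), (2, 16), (2, 12), (2, 12), (2, 12), (2, 12), (11, 11), (11, 11), (6, 6), (5, 5)]),
  (7920, [(3, 18), (2, 16), (2, 16), (2, 16), (2, 12), (11, 11), (11, 11), (2, 8), (6, 6), (5, 5)]),
  (7920, [(2, 24), (3, 18), (2, 16), (2, 12), (2, 12), (11, 11), (11, 11), (2, 8), (6, 6), (5, 5)]),
  (7920, [(2, 48), (3, 18), (2, 12), (2, 12), (2, 12), (11, 11), (11, 11), (2, 8), (6, 6), (5, 5)]),
  (7920, [(2, 24), (2, 24), (3, 18), (2, 16), (11, 11), (11, 11), (2, 8), (2, 8), (6, 6), (5, 5)]),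
  (7920, [(2, 48), (3, 18), (2, 16), (2, 16), (11, 11), (11, 11), (2, 8), (2, 8), (6, 6), (5, 5)]),
  (7920, [(2, 48), (2, 24), (3, 18), (2, 12), (11, 11), (11, 11), (2, 8), (2, 8), (6, 6), (5, 5)]),
  (7920, [(2, 144), (3, 18), (6, 18), (11, 11), (11, 11), (2, 8), (2, 8), (2, 8), (2, 8), (5, 5)]),
  (25920, [(2, 192), (3, 81), (3, 54), (3, 9), (3, 9), (2, 8), (2, 8), (2, 8), (6, 6), (5, 5)]),
  (9720, [(3, 243), (3, 243), (3, 18), (2, 12), (3, 9), (2, 8), (2, 8), (2, 8), (6, 6), (5, 5)]),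
  (9720, [(3, 486), (3, 162), (3, 18), (2, 12), (3, 9), (2, 8), (2, 8), (2, 8), (6, 6), (5, 5)]),
  (2448, [(17, 17), (17, 17), (2, 16), (3, 9), (3, 9), (3, 9), (3, 9), (2, 8), (2, 8), (2, 8)]),
  (6048, [(2, 32), (3, 27), (2, 16), (3, 9), (3, 9), (3, 9), (2, 8), (2, 8), (7, 7), (7, 7)]),
  (12096, [(2, 192), (3, 54), (3, 18), (2, 12), (3, 9), (2, 8), (2, 8), (7, 7), (6, 6), (6, 6)]),
  (96768, [(2, 1536), (3, 54), (3, 54), (3, 9), (2, 8), (2, 8), (2, 8), (7, 7), (6, 6), (6, 6)]),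
  (96768, [(2, 1536), (3, 27), (3, 18), (3, 18), (2, 8), (2, 8), (2, 8), (7, 7), (6, 6), (6, 6)]),
  (58320, [(3, 1458), (3, 1458), (2, 16), (2, 12), (2, 12), (3, 9), (2, 8), (6, 6), (6, 6), (5, 5)]),
  (58320, [(3, 1458), (3, 1458), (2, 24), (2, 16), (3, 9), (2, 8), (2, 8), (6, 6), (6, 6), (5, 5)]),
  (58320, [(3, 1458), (3, 1458), (2, 48), (2, 12), (3, 9), (2, 8), (2, 8), (6, 6), (6, 6), (5, 5)]),
  (58320, [(3, 729), (2, 24), (3, 18), (3, 18), (2, 16), (2, 8), (2, 8), (6, 6), (6, 6), (5, 5)]),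
  (58320, [(3, 729), (2, 48), (3, 18), (3, 18), (2, 12), (2, 8), (2, 8), (6, 6), (6, 6), (5, 5)]),
  (58320, [(3, 729), (3, 18), (3, 18), (2, 16), (2, 12), (2, 12), (2, 8), (6, 6), (6, 6), (5, 5)]),
  (6048, [(3, 108), (2, 96), (2, 12), (6, 12), (3, 9), (2, 8), (2, 8), (7, 7), (7, 7), (6, 6)]),
  (168, [(2, 12), (2, 12), (2, 12), (3, 12), (6, 12), (6, 12), (6, 12), (2, 8), (7, 7), (7, 7)]),
  (168, [(2, 24), (2, 12), (3, 12), (6, 12), (6, 12), (6, 12), (2, 8), (2, 8), (7, 7), (7, 7)]),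
  (168, [(2, 12), (2, 12), (2, 12), (3, 12), (6, 12), (2, 8), (7, 7), (7, 7), (6, 6)]),
  (168, [(2, 24), (2, 12), (3, 12), (6, 12), (2, 8), (2, 8), (7, 7), (7, 7), (6, 6)]),
  (20160, [(2, 64), (2, 16), (2, 16), (2, 16), (3, 9), (7, 7), (7, 7), (5, 5), (5, 5)]),
  (20160, [(2, 64), (2, 32), (2, 32), (3, 9), (2, 8), (7, 7), (7, 7), (5, 5), (5, 5)]),
  (15600, [(2, 48), (5, 25), (13, 13), (13, 13), (13, 13), (2, 8), (2, 8), (2, 8), (3, 6), (6, 6)]),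
  (15600, [(5, 25), (2, 16), (13, 13), (13, 13), (13, 13), (2, 12), (2, 8), (2, 8), (3, 6), (6, 6)]),
  (16320, [(2, 64), (17, 17), (17, 17), (2, 12), (2, 8), (2, 8), (3, 6), (6, 6), (5, 5)]),
  (7920, [(3, 18), (2, 16), (2, 12), (11, 11), (11, 11), (2, 8), (2, 8), (6, 6), (5, 5)]),
  (7920, [(2, 48), (3, 18), (11, 11), (11, 11), (2, 8), (2, 8), (2, 8), (6, 6), (5, 5)]),
  (29120, [(2, 64), (2, 16), (2, 16), (13, 13), (13, 13), (13, 13), (7, 7), (7, 7), (7, 7), (5, 5)]),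
  (32256, [(2, 512), (2, 16), (2, 16), (3, 9), (3, 9), (3, 9), (3, 9), (7, 7), (7, 7), (7, 7)]),
  (2064384, [(2, 32768), (2, 512), (3, 9), (3, 9), (3, 9), (3, 9), (2, 8), (7, 7), (7, 7), (7, 7)]),
  (29160, [(3, 729), (3, 729), (3, 9), (3, 9), (2, 8), (2, 8), (2, 8), (5, 5), (5, 5)]),
  (34560, [(2, 256), (2, 32), (3, 27), (3, 18), (2, 12), (3, 9), (3, 9), (6, 6), (5, 5), (5, 5)]),
  (174960, [(3, 4374), (3, 4374), (3, 27), (2, 24), (2, 16), (2, 8), (6, 6), (6, 6), (5, 5), (5, 5)]),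
  (174960, [(3, 2187), (3, 54), (3, 54), (2, 24), (2, 16), (2, 8), (6, 6), (6, 6), (5, 5), (5, 5)]),
  (174960, [(3, 4374), (3, 4374), (2, 48), (3, 27), (2, 12), (2, 8), (6, 6), (6, 6), (5, 5), (5, 5)]),
  (174960, [(3, 2187), (3, 54), (3, 54), (2, 48), (2, 12), (2, 8), (6, 6), (6, 6), (5, 5), (5, 5)]),
  (174960, [(3, 4374), (3, 4374), (3, 27), (2, 16), (2, 12), (2, 12), (6, 6), (6, 6), (5, 5), (5, 5)]),
  (174960, [(3, 2187), (3, 54), (3, 54), (2, 16), (2, 12), (2, 12), (6, 6), (6, 6), (5, 5), (5, 5)]),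
  (360, [(2, 36), (2, 24), (3, 18), (3, 18), (6, 18), (2, 12), (3, 9), (6, 6), (5, 5), (5, 5)]),
  (360, [(2, 72), (2, 72), (3, 18), (3, 18), (6, 18), (3, 9), (2, 8), (6, 6), (5, 5), (5, 5)]),
  (360, [(2, 72), (3, 18), (3, 18), (6, 18), (6, 18), (3, 9), (2, 8), (2, 8), (5, 5), (5, 5)]),
  (37800, [(3, 27), (5, 25), (5, 25), (3, 9), (3, 9), (2, 8), (2, 8), (2, 8), (7, 7), (7, 7)]),
  (34560, [(2, 256), (3, 36), (2, 32), (3, 27), (2, 12), (6, 12), (6, 6), (6, 6), (5, 5), (5, 5)]),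
  (34560, [(2, 256), (3, 108), (2, 32), (3, 18), (2, 12), (6, 12), (6, 6), (6, 6), (5, 5), (5, 5)]),
  (60, [(2, 12), (2, 12), (2, 12), (3, 12), (6, 12), (6, 6), (5, 5), (5, 5)]),
  (60, [(2, 12), (2, 12), (2, 12), (3, 12), (6, 12), (6, 12), (6, 12), (5, 5), (5, 5)]),
  (20160, [(2, 64), (2, 16), (3, 9), (2, 8), (7, 7), (7, 7), (5, 5), (5, 5)]),
  (13440, [(2, 640), (2, 192), (2, 32), (5, 10), (10, 10), (7, 7), (7, 7), (7, 7), (3, 6), (6, 6)]),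
  (13440, [(2, 1920), (2, 160), (2, 32), (5, 10), (10, 10), (7, 7), (7, 7), (7, 7), (3, 6), (6, 6)]),
  (13440, [(2, 384), (2, 240), (2, 32), (5, 10), (10, 10), (7, 7), (7, 7), (7, 7), (3, 6), (6, 6)]),
  (13440, [(2, 640), (2, 64), (2, 48), (5, 10), (10, 10), (7, 7), (7, 7), (7, 7), (3, 6), (6, 6)]),
  (13440, [(2, 1920), (2, 60), (2, 48), (5, 10), (10, 10), (7, 7), (7, 7), (7, 7), (3, 6), (6, 6)]),
  (13440, [(2, 192), (2, 128), (2, 40), (5, 10), (10, 10), (7, 7), (7, 7), (7, 7), (3, 6), (6, 6)]),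
  (13440, [(2, 384), (2, 96), (2, 40), (5, 10), (10, 10), (7, 7), (7, 7), (7, 7), (3, 6), (6, 6)]),
  (13440, [(2, 1920), (2, 80), (2, 40), (5, 10), (10, 10), (7, 7), (7, 7), (7, 7), (3, 6), (6, 6)]),
  (29120, [(2, 64), (13, 13), (13, 13), (13, 13), (2, 8), (7, 7), (7, 7), (7, 7), (5, 5)]),
  (90720, [(3, 81), (3, 81), (2, 32), (3, 9), (3, 9), (3, 9), (2, 8), (7, 7), (7, 7), (5, 5)]),
  (48384, [(2, 768), (3, 54), (3, 18), (2, 12), (3, 9), (3, 9), (7, 7), (7, 7), (6, 6), (6, 6)]),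
  (18144, [(3, 81), (2, 32), (3, 18), (2, 12), (3, 9), (3, 9), (7, 7), (7, 7), (7, 7), (6, 6)]),
  (12960, [(3, 162), (2, 96), (3, 36), (2, 12), (6, 12), (3, 9), (3, 9), (6, 6), (5, 5), (5, 5)]),
  (77760, [(3, 972), (2, 192), (2, 96), (6, 12), (3, 9), (3, 9), (3, 9), (6, 6), (5, 5), (5, 5)]),
  (360, [(2, 36), (3, 18), (3, 18), (3, 18), (3, 18), (6, 18), (2, 8), (6, 6), (5, 5), (5, 5)]),
  (29160, [(3, 1458), (3, 486), (2, 36), (6, 18), (3, 9), (3, 9), (2, 8), (6, 6), (5, 5), (5, 5)]),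
  (77760, [(3, 972), (2, 576), (6, 18), (6, 12), (3, 9), (3, 9), (3, 9), (2, 8), (5, 5), (5, 5)]),
  (25920, [(2, 192), (3, 81), (3, 54), (2, 24), (3, 9), (3, 9), (6, 6), (6, 6), (6, 6), (5, 5)]),
  (9720, [(3, 243), (3, 243), (2, 24), (3, 18), (2, 12), (3, 9), (6, 6), (6, 6), (6, 6), (5, 5)]),
  (9720, [(3, 486), (3, 162), (2, 24), (3, 18), (2, 12), (3, 9), (6, 6), (6, 6), (6, 6), (5, 5)]),
  (32256, [(2, 512), (3, 9), (3, 9), (3, 9), (3, 9), (2, 8), (7, 7), (7, 7), (7, 7)]),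
  (504, [(3, 36), (2, 24), (3, 18), (2, 12), (6, 12), (3, 9), (7, 7), (7, 7), (7, 7), (6, 6)]),
  (360, [(2, 36), (3, 18), (3, 18), (6, 18), (3, 9), (2, 8), (6, 6), (5, 5), (5, 5)]),
  (12960, [(3, 648), (2, 96), (3, 54), (6, 24), (2, 12), (3, 9), (6, 6), (6, 6), (5, 5), (5, 5)]),
  (12960, [(3, 162), (2, 96), (3, 72), (6, 24), (2, 12), (3, 9), (6, 6), (6, 6), (5, 5), (5, 5)]),
  (58320, [(3, 729), (2, 144), (3, 18), (3, 18), (6, 18), (2, 8), (6, 6), (6, 6), (6, 6), (5, 5)]),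
  (58320, [(3, 1458), (3, 1458), (2, 144), (6, 18), (3, 9), (2, 8), (6, 6), (6, 6), (6, 6), (5, 5)]),
  (18144, [(3, 324), (2, 32), (3, 27), (2, 12), (6, 12), (7, 7), (7, 7), (7, 7), (6, 6), (6, 6)]),
  (18144, [(3, 81), (3, 36), (2, 32), (2, 12), (6, 12), (7, 7), (7, 7), (7, 7), (6, 6), (6, 6)]),
  (504, [(3, 72), (2, 24), (6, 24), (3, 18), (2, 12), (7, 7), (7, 7), (7, 7), (6, 6), (6, 6)]),
  (42120, [(3, 162), (13, 13), (13, 13), (13, 13), (13, 13), (2, 12), (3, 9), (2, 8), (6, 6), (5, 5)]),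
  (6048, [(2, 96), (3, 54), (3, 54), (3, 9), (3, 9), (3, 9), (7, 7), (7, 7), (6, 6), (6, 6)]),
  (6048, [(2, 96), (3, 27), (3, 18), (3, 18), (3, 9), (3, 9), (7, 7), (7, 7), (6, 6), (6, 6)]),
  (360, [(3, 36), (2, 24), (6, 12), (3, 9), (3, 9), (3, 9), (3, 9), (5, 5), (5, 5)]),
  (29160, [(3, 1458), (3, 1458), (3, 729), (2, 24), (3, 9), (3, 9), (6, 6), (6, 6), (5, 5), (5, 5)]),
  (29160, [(3, 729), (3, 729), (2, 24), (3, 18), (3, 18), (3, 9), (6, 6), (6, 6), (5, 5), (5, 5)]),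
  (29160, [(3, 1458), (3, 486), (2, 24), (3, 18), (3, 18), (3, 9), (6, 6), (6, 6), (5, 5), (5, 5)]),
  (360, [(3, 72), (2, 24), (6, 24), (3, 18), (3, 18), (3, 9), (3, 9), (6, 6), (5, 5), (5, 5)]),
  (29160, [(3, 1458), (3, 486), (2, 24), (3, 9), (3, 9), (6, 6), (6, 6), (5, 5), (5, 5)]),
  (360, [(2, 24), (3, 18), (3, 18), (3, 18), (3, 18), (6, 6), (6, 6), (5, 5), (5, 5)]),
  (360, [(3, 72), (2, 24), (6, 24), (3, 9), (3, 9), (3, 9), (6, 6), (5, 5), (5, 5)]),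
  (360, [(3, 36), (3, 36), (2, 24), (3, 18), (6, 12), (6, 12), (3, 9), (6, 6), (5, 5), (5, 5)]),
  (360, [(3, 72), (2, 24), (6, 24), (6, 12), (6, 12), (3, 9), (3, 9), (3, 9), (5, 5), (5, 5)]),
  (504, [(3, 9), (3, 9), (3, 9), (3, 9), (2, 8), (7, 7), (7, 7), (7, 7)]),
  (6048, [(2, 96), (3, 36), (3, 27), (3, 18), (6, 12), (7, 7), (7, 7), (6, 6), (6, 6), (6, 6)]),
  (6048, [(3, 108), (2, 96), (3, 18), (3, 18), (6, 12), (7, 7), (7, 7), (6, 6), (6, 6), (6, 6)]),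
  (360, [(2, 24), (3, 18), (3, 18), (3, 9), (6, 6), (6, 6), (5, 5), (5, 5)]),
  (174960, [(3, 4374), (3, 4374), (2, 144), (3, 27), (6, 18), (6, 6), (6, 6), (6, 6), (5, 5), (5, 5)]),
  (174960, [(3, 2187), (2, 144), (3, 54), (3, 54), (6, 18), (6, 6), (6, 6), (6, 6), (5, 5), (5, 5)]),
  (360, [(3, 72), (3, 36), (2, 24), (6, 24), (3, 18), (6, 12), (6, 6), (6, 6), (5, 5), (5, 5)]),
  (6048, [(3, 108), (2, 96), (6, 12), (6, 12), (6, 12), (3, 9), (7, 7), (7, 7), (6, 6), (6, 6)]),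
  (1092, [(13, 13), (13, 13), (2, 12), (7, 7), (7, 7), (7, 7), (3, 6), (6, 6)])]

end CL.KC
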