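/-
Simple groups with at most eleven conjugacy classes: the search, part 4.
-/
import Cfsg.Agent.Known.KC.Sv

namespace CL.KC

theorem c_2_2_3_3_3_5_5_6_6_6 : chk1 sv [] 0 6 [6, 6, 5, 5, 3, 3, 3, 2, 2] = true := by decide +kernel
theorem c_2_2_3_5_6_6_7 : chk1 sv [[7, 7, 6, 6, 5, 3, 2, 2], [10, 7, 6, 6, 5, 3, 2, 2]] 3 7 [6, 6, 5, 3, 2, 2] = true := by decide +kernel
theorem c_2_2_3_5_5_7 : chk1 sv [] 4 7 [5, 5, 3, 2, 2] = true := by decide +kernel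
theorem c_2_2_3_3_5_6_6_7 : chk1 sv [[7, 7, 6, 6, 5, 3, 3, 2, 2], [10, 7, 6, 6, 5, 3, 3, 2, 2], [13, 7, 6, 6, 5, 3, 3, 2, 2]] 2 7 [6, 6, 5, 3, 3, 2, 2] = true := by decide +kernel
theorem c_2_2_3_5_6_6 : chk1 sv [[6, 6, 6, 6, 5, 3, 2, 2], [7, 6, 6, 5, 3, 2, 2], [7, 6, 6, 6, 5, 3, 2, 2], [10, 6, 6, 5, 3, 2, 2]] 4 6 [6, 5, 3, 2, 2] = true := by decide +kernel
theorem c_2_3_3_5_5_6_6_6_6 : chk1 sv [] 1 6 [6, 6, 6, 5, 5, 3, 3, 2] = true := by decide +kernel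
theorem c_2_2_2_3_3_5_6_7_7 : chk1 sv [] 1 7 [7, 6, 5, 3, 3, 2, 2, 2] = true := by decide +kernel
theorem c_2_2_2_2_3_3_5_6 : chk1 sv [[6, 6, 5, 3, 3, 2, 2, 2, 2], [7, 6, 5, 3, 3, 2, 2, 2, 2]] 2 6 [5, 3, 3, 2, 2, 2, 2] = true := by decide +kernel
theorem c_2_3_5_5_6_6_7_7 : chk1 sv [] 2 7 [7, 6, 6, 5, 5, 3, 2] = true := by decide +kernel
theorem c_2_2_2_2_2_2 : chk1 sv [[2, 2, 2, 2, 2, 2, 2], [5, 3, 2, 2, 2, 2, 2, 2], [6, 3, 2, 2, 2, 2, 2, 2]] 4 2 [2, 2, 2, 2, 2] = true := by decide +kernel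
theorem c_2_3_3_3_3 : chk1 sv [[3, 3, 3, 3, 3, 2], [6, 5, 5, 3, 3, 3, 3, 2], [6, 6, 3, 3, 3, 3, 2]] 5 3 [3, 3, 3, 2] = true := by decide +kernel
theorem c_2_3_3_5_5_6_7_7 : chk1 sv [[7, 7, 7, 6, 5, 5, 3, 3, 2]] 2 7 [7, 6, 5, 5, 3, 3, 2] = true := by decide +kernel
theorem c_2_2_3_6_7 : chk1 sv [] 5 7 [6, 3, 2, 2] = true := by decide +kernel
theorem c_2_2_3_5_6_6_7_10 : chk1 sv [] 2 10 [7, 6, 6, 5, 3, 2, 2] = true := by decide +kernel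
theorem c_2_2_2_2_2_2_3_5 : chk1 sv [[6, 5, 3, 2, 2, 2, 2, 2, 2]] 2 5 [3, 2, 2, 2, 2, 2, 2] = true := by decide +kernel
theorem c_2_2_2_2_2_3_6 : chk1 sv [[7, 6, 3, 2, 2, 2, 2, 2]] 3 6 [3, 2, 2, 2, 2, 2] = true := by decide +kernel
theorem c_2_2_3_3_5_6_7_10 : chk1 sv [] 2 10 [7, 6, 5, 3, 3, 2, 2] = true := by decide +kernel
theorem c_2_3_5_5_7 : chk1 sv [[7, 7, 7, 5, 5, 3, 2]] 5 7 [5, 5, 3, 2] = true := by decide +kernel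
theorem c_2_2_3_5_5_6_7_7 : chk1 sv [[7, 7, 7, 6, 5, 5, 3, 2, 2], [10, 7, 7, 6, 5, 5, 3, 2, 2], [13, 7, 7, 6, 5, 5, 3, 2, 2]] 2 7 [7, 6, 5, 5, 3, 2, 2] = true := by decide +kernel
theorem c_2_2_5_5 : chk1 sv [[5, 5, 5, 2, 2]] 6 5 [5, 2, 2] = true := by decide +kernel
theorem c_2_2_2_3_5_6_7_13 : chk1 sv [] 2 13 [7, 6, 5, 3, 2, 2, 2] = true := by decide +kernel
theorem c_2_2_2_2_2_3_5_5_6_6 : chk1 sv [] 0 6 [6, 5, 5, 3, 2, 2, 2, 2, 2] = true := by decide +kernel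
theorem c_2_2_2_3_5_6_6_6 : chk1 sv [[7, 6, 6, 6, 5, 3, 2, 2, 2]] 2 6 [6, 6, 5, 3, 2, 2, 2] = true := by decide +kernel
theorem c_2_2_2_2_2_3 : chk1 sv [[5, 3, 2, 2, 2, 2, 2], [5, 3, 3, 2, 2, 2, 2, 2], [6, 3, 2, 2, 2, 2, 2], [6, 3, 3, 2, 2, 2, 2, 2]] 4 3 [2, 2, 2, 2, 2] = true := by decide +kernel
theorem c_2_2_3_5_5 : chk1 sv [[5, 5, 5, 3, 2, 2], [6, 5, 5, 3, 2, 2], [7, 5, 5, 3, 2, 2]] 5 5 [5, 3, 2, 2] = true := by decide +kernel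
theorem c_2_2_2_2 : chk1 sv [[2, 2, 2, 2, 2], [3, 2, 2, 2, 2], [5, 5, 2, 2, 2, 2]] 6 2 [2, 2, 2] = true := by decide +kernel
theorem c_2_2_3_5_5_6_7_10 : chk1 sv [[10, 10, 7, 6, 5, 5, 3, 2, 2]] 2 10 [7, 6, 5, 5, 3, 2, 2] = true := by decide +kernel
theorem c_2_3_5_5_5_6 : chk1 sv [] 4 6 [5, 5, 5, 3, 2] = true := by decide +kernel
theorem c_2_2_2_2_3_6_7_7 : chk1 sv [] 2 7 [7, 6, 3, 2, 2, 2, 2] = true := by decide +kernel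
theorem c_2_2_2_3_5_5_6 : chk1 sv [[6, 6, 5, 5, 3, 2, 2, 2], [7, 6, 5, 5, 3, 2, 2, 2], [10, 6, 5, 5, 3, 2, 2, 2], [13, 6, 5, 5, 3, 2, 2, 2]] 3 6 [5, 5, 3, 2, 2, 2] = true := by decide +kernel
theorem c_2_2_3_3_5_6_6_6_6 : chk1 sv [] 1 6 [6, 6, 6, 5, 3, 3, 2, 2] = true := by decide +kernel
theorem c_2_3_5_5_6_7_11 : chk1 sv [] 3 11 [7, 6, 5, 5, 3, 2] = true := by decide +kernel
theorem c_2_2_3_3_5_6_6_10 : chk1 sv [] 2 10 [6, 6, 5, 3, 3, 2, 2] = true := by decide +kernel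
theorem c_2_2_3_5_6_10 : chk1 sv [[10, 10, 6, 5, 3, 2, 2]] 4 10 [6, 5, 3, 2, 2] = true := by decide +kernel
theorem c_2_2_2_3_5_6_7_10_10 : chk1 sv [] 1 10 [10, 7, 6, 5, 3, 2, 2, 2] = true := by decide +kernel
theorem c_2_2_2_3_5_6_7_10 : chk1 sv [[10, 10, 7, 6, 5, 3, 2, 2, 2], [11, 10, 7, 6, 5, 3, 2, 2, 2]] 2 10 [7, 6, 5, 3, 2, 2, 2] = true := by decide +kernel
theorem c_2_3_3_3_5_5_6 : chk1 sv [[6, 6, 5, 5, 3, 3, 3, 2], [7, 6, 5, 5, 3, 3, 3, 2]] 3 6 [5, 5, 3, 3, 3, 2] = true := by decide +kernel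
theorem c_2_3_3_5_5_6_6_6_7_7 : chk1 sv [] 0 7 [7, 6, 6, 6, 5, 5, 3, 3, 2] = true := by decide +kernel
theorem c_2_3_3_3_3_3 : chk1 sv [[5, 3, 3, 3, 3, 3, 2], [6, 3, 3, 3, 3, 3, 2]] 4 3 [3, 3, 3, 3, 2] = true := by decide +kernel
theorem c_2_2_2_2_3_5_5_6_17 : chk1 sv [] 1 17 [6, 5, 5, 3, 2, 2, 2, 2] = true := by decide +kernel
theorem c_2_2_2_3_5_6_6_7_10 : chk1 sv [] 1 10 [7, 6, 6, 5, 3, 2, 2, 2] = true := by decide +kernel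
theorem c_2_2_3_5_5_6_7_10_10 : chk1 sv [] 1 10 [10, 7, 6, 5, 5, 3, 2, 2] = true := by decide +kernel
theorem c_2_2_3_3_5_5_6_7_19 : chk1 sv [] 1 19 [7, 6, 5, 5, 3, 3, 2, 2] = true := by decide +kernel
theorem c_2_2_2_3_3_5_5_6_7_14 : chk1 sv [] 0 14 [7, 6, 5, 5, 3, 3, 2, 2, 2] = true := by decide +kernel

end CL.KC
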