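/-
Simple groups with at most eleven conjugacy classes: the result of the search.
-/
import Cfsg.Agent.Known.KC.R1
import Cfsg.Agent.Known.KC.R2
import Cfsg.Agent.Known.KC.R3
import Cfsg.Agent.Known.KC.R4
import Cfsg.Agent.Known.KC.R5
import Cfsg.Agent.Known.KC.R6
import Cfsg.Agent.Known.KC.R7
import Cfsg.Agent.Known.KC.R8

namespace CL.KC

theorem g_2_2_2_2_2_2_3_5_6_7 : Good1 sv [7, 6, 5, 3, 2, 2, 2, 2, 2, 2] := good1_of _ _ _ _ c_2_2_2_2_2_2_3_5_6_7 trivial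
theorem g_2_2_2_2_2_2_3_5_6 : Good1 sv [6, 5, 3, 2, 2, 2, 2, 2, 2] := good1_of _ _ _ _ c_2_2_2_2_2_2_3_5_6 g_2_2_2_2_2_2_3_5_6_7
theorem g_2_2_2_2_2_2_3_6 : Good1 sv [6, 3, 2, 2, 2, 2, 2, 2] := good1_of _ _ _ _ c_2_2_2_2_2_2_3_6 trivial
theorem g_2_2_2_2_2_2_3_5 : Good1 sv [5, 3, 2, 2, 2, 2, 2, 2] := good1_of _ _ _ _ c_2_2_2_2_2_2_3_5 g_2_2_2_2_2_2_3_5_6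
theorem g_2_2_2_2_2_2_2 : Good1 sv [2, 2, 2, 2, 2, 2, 2] := good1_of _ _ _ _ c_2_2_2_2_2_2_2 trivial
theorem g_2_2_2_2_2_3_3_5_6 : Good1 sv [6, 5, 3, 3, 2, 2, 2, 2, 2] := good1_of _ _ _ _ c_2_2_2_2_2_3_3_5_6 trivial
theorem g_2_2_2_2_2_3_3_6 : Good1 sv [6, 3, 3, 2, 2, 2, 2, 2] := good1_of _ _ _ _ c_2_2_2_2_2_3_3_6 trivial
theorem g_2_2_2_2_2_3_3_5 : Good1 sv [5, 3, 3, 2, 2, 2, 2, 2] := good1_of _ _ _ _ c_2_2_2_2_2_3_3_5 g_2_2_2_2_2_3_3_5_6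
theorem g_2_2_2_2_2_3_6_7 : Good1 sv [7, 6, 3, 2, 2, 2, 2, 2] := good1_of _ _ _ _ c_2_2_2_2_2_3_6_7 trivial
theorem g_2_2_2_2_2_3_5_5_6_7 : Good1 sv [7, 6, 5, 5, 3, 2, 2, 2, 2, 2] := good1_of _ _ _ _ c_2_2_2_2_2_3_5_5_6_7 trivial
theorem g_2_2_2_2_2_3_5_5_6_6 : Good1 sv [6, 6, 5, 5, 3, 2, 2, 2, 2, 2] := good1_of _ _ _ _ c_2_2_2_2_2_3_5_5_6_6 trivial
theorem g_2_2_2_2_2_3_5_5_6 : Good1 sv [6, 5, 5, 3, 2, 2, 2, 2, 2] := good1_of _ _ _ _ c_2_2_2_2_2_3_5_5_6 ⟨g_2_2_2_2_2_3_5_5_6_6, g_2_2_2_2_2_3_5_5_6_7⟩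
theorem g_2_2_2_2_2_3_5_6_7_7 : Good1 sv [7, 7, 6, 5, 3, 2, 2, 2, 2, 2] := good1_of _ _ _ _ c_2_2_2_2_2_3_5_6_7_7 trivial
theorem g_2_2_2_2_2_3_5_6_7 : Good1 sv [7, 6, 5, 3, 2, 2, 2, 2, 2] := good1_of _ _ _ _ c_2_2_2_2_2_3_5_6_7 g_2_2_2_2_2_3_5_6_7_7
theorem g_2_2_2_2_2_3_5_6_6 : Good1 sv [6, 6, 5, 3, 2, 2, 2, 2, 2] := good1_of _ _ _ _ c_2_2_2_2_2_3_5_6_6 trivial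
theorem g_2_2_2_2_2_3_5_6_10 : Good1 sv [10, 6, 5, 3, 2, 2, 2, 2, 2] := good1_of _ _ _ _ c_2_2_2_2_2_3_5_6_10 trivial
theorem g_2_2_2_2_2_3_5_6 : Good1 sv [6, 5, 3, 2, 2, 2, 2, 2] := good1_of _ _ _ _ c_2_2_2_2_2_3_5_6 ⟨g_2_2_2_2_2_3_5_6_6, g_2_2_2_2_2_3_5_6_7, g_2_2_2_2_2_3_5_6_10⟩
theorem g_2_2_2_2_2_3_5 : Good1 sv [5, 3, 2, 2, 2, 2, 2] := good1_of _ _ _ _ c_2_2_2_2_2_3_5 ⟨g_2_2_2_2_2_3_5_6, g_2_2_2_2_2_3_5_5_6⟩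
theorem g_2_2_2_2_2_3_6 : Good1 sv [6, 3, 2, 2, 2, 2, 2] := good1_of _ _ _ _ c_2_2_2_2_2_3_6 g_2_2_2_2_2_3_6_7
theorem g_2_2_2_2_2_2 : Good1 sv [2, 2, 2, 2, 2, 2] := good1_of _ _ _ _ c_2_2_2_2_2_2 ⟨g_2_2_2_2_2_2_2, g_2_2_2_2_2_2_3_5, g_2_2_2_2_2_2_3_6⟩
theorem g_2_2_2_2_2_3 : Good1 sv [3, 2, 2, 2, 2, 2] := good1_of _ _ _ _ c_2_2_2_2_2_3 ⟨g_2_2_2_2_2_3_5, g_2_2_2_2_2_3_3_5, g_2_2_2_2_2_3_6, g_2_2_2_2_2_3_3_6⟩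
theorem g_2_2_2_2_5_5 : Good1 sv [5, 5, 2, 2, 2, 2] := good1_of _ _ _ _ c_2_2_2_2_5_5 trivial
theorem g_2_2_2_2_3_3_3_5_6 : Good1 sv [6, 5, 3, 3, 3, 2, 2, 2, 2] := good1_of _ _ _ _ c_2_2_2_2_3_3_3_5_6 trivial
theorem g_2_2_2_2_3_3_3_6 : Good1 sv [6, 3, 3, 3, 2, 2, 2, 2] := good1_of _ _ _ _ c_2_2_2_2_3_3_3_6 trivial
theorem g_2_2_2_2_3_3_3_5 : Good1 sv [5, 3, 3, 3, 2, 2, 2, 2] := good1_of _ _ _ _ c_2_2_2_2_3_3_3_5 g_2_2_2_2_3_3_3_5_6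
theorem g_2_2_2_2_3_3_6_6_7 : Good1 sv [7, 6, 6, 3, 3, 2, 2, 2, 2] := good1_of _ _ _ _ c_2_2_2_2_3_3_6_6_7 trivial
theorem g_2_2_2_2_3_3_6_7 : Good1 sv [7, 6, 3, 3, 2, 2, 2, 2] := good1_of _ _ _ _ c_2_2_2_2_3_3_6_7 trivial
theorem g_2_2_2_2_3_3_5_5_6_6 : Good1 sv [6, 6, 5, 5, 3, 3, 2, 2, 2, 2] := good1_of _ _ _ _ c_2_2_2_2_3_3_5_5_6_6 trivial
theorem g_2_2_2_2_3_3_5_5_6_7 : Good1 sv [7, 6, 5, 5, 3, 3, 2, 2, 2, 2] := good1_of _ _ _ _ c_2_2_2_2_3_3_5_5_6_7 trivial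
theorem g_2_2_2_2_3_3_5_6_6_7 : Good1 sv [7, 6, 6, 5, 3, 3, 2, 2, 2, 2] := good1_of _ _ _ _ c_2_2_2_2_3_3_5_6_6_7 trivial
theorem g_2_2_2_2_3_3_5_6_6 : Good1 sv [6, 6, 5, 3, 3, 2, 2, 2, 2] := good1_of _ _ _ _ c_2_2_2_2_3_3_5_6_6 g_2_2_2_2_3_3_5_6_6_7
theorem g_2_2_2_2_3_3_5_6_7 : Good1 sv [7, 6, 5, 3, 3, 2, 2, 2, 2] := good1_of _ _ _ _ c_2_2_2_2_3_3_5_6_7 trivial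
theorem g_2_2_2_2_3_3_5_5 : Good1 sv [5, 5, 3, 3, 2, 2, 2, 2] := good1_of _ _ _ _ c_2_2_2_2_3_3_5_5 ⟨g_2_2_2_2_3_3_5_5_6_6, g_2_2_2_2_3_3_5_5_6_7⟩
theorem g_2_2_2_2_3_3_5_6 : Good1 sv [6, 5, 3, 3, 2, 2, 2, 2] := good1_of _ _ _ _ c_2_2_2_2_3_3_5_6 ⟨g_2_2_2_2_3_3_5_6_6, g_2_2_2_2_3_3_5_6_7⟩
theorem g_2_2_2_2_3_3_6 : Good1 sv [6, 3, 3, 2, 2, 2, 2] := good1_of _ _ _ _ c_2_2_2_2_3_3_6 ⟨g_2_2_2_2_3_3_6_7, g_2_2_2_2_3_3_6_6_7⟩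
theorem g_2_2_2_2_3_3_3 : Good1 sv [3, 3, 3, 2, 2, 2, 2] := good1_of _ _ _ _ c_2_2_2_2_3_3_3 ⟨g_2_2_2_2_3_3_3_5, g_2_2_2_2_3_3_3_6⟩
theorem g_2_2_2_2_3_6_6_7 : Good1 sv [7, 6, 6, 3, 2, 2, 2, 2] := good1_of _ _ _ _ c_2_2_2_2_3_6_6_7 trivial
theorem g_2_2_2_2_3_6_7_7 : Good1 sv [7, 7, 6, 3, 2, 2, 2, 2] := good1_of _ _ _ _ c_2_2_2_2_3_6_7_7 trivial
theorem g_2_2_2_2_3_6_7 : Good1 sv [7, 6, 3, 2, 2, 2, 2] := good1_of _ _ _ _ c_2_2_2_2_3_6_7 g_2_2_2_2_3_6_7_7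
theorem g_2_2_2_2_3_5_5_6_6_7 : Good1 sv [7, 6, 6, 5, 5, 3, 2, 2, 2, 2] := good1_of _ _ _ _ c_2_2_2_2_3_5_5_6_6_7 trivial
theorem g_2_2_2_2_3_5_5_6_6_6 : Good1 sv [6, 6, 6, 5, 5, 3, 2, 2, 2, 2] := good1_of _ _ _ _ c_2_2_2_2_3_5_5_6_6_6 trivial
theorem g_2_2_2_2_3_5_5_6_7_7 : Good1 sv [7, 7, 6, 5, 5, 3, 2, 2, 2, 2] := good1_of _ _ _ _ c_2_2_2_2_3_5_5_6_7_7 trivial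
theorem g_2_2_2_2_3_5_5_6_7_14 : Good1 sv [14, 7, 6, 5, 5, 3, 2, 2, 2, 2] := good1_of _ _ _ _ c_2_2_2_2_3_5_5_6_7_14 trivial
theorem g_2_2_2_2_3_5_5_6_7 : Good1 sv [7, 6, 5, 5, 3, 2, 2, 2, 2] := good1_of _ _ _ _ c_2_2_2_2_3_5_5_6_7 ⟨g_2_2_2_2_3_5_5_6_7_7, g_2_2_2_2_3_5_5_6_7_14⟩
theorem g_2_2_2_2_3_5_5_6_13 : Good1 sv [13, 6, 5, 5, 3, 2, 2, 2, 2] := good1_of _ _ _ _ c_2_2_2_2_3_5_5_6_13 trivial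
theorem g_2_2_2_2_3_5_5_6_6 : Good1 sv [6, 6, 5, 5, 3, 2, 2, 2, 2] := good1_of _ _ _ _ c_2_2_2_2_3_5_5_6_6 ⟨g_2_2_2_2_3_5_5_6_6_6, g_2_2_2_2_3_5_5_6_6_7⟩
theorem g_2_2_2_2_3_5_5_6_17 : Good1 sv [17, 6, 5, 5, 3, 2, 2, 2, 2] := good1_of _ _ _ _ c_2_2_2_2_3_5_5_6_17 trivial
theorem g_2_2_2_2_3_5_5_6 : Good1 sv [6, 5, 5, 3, 2, 2, 2, 2] := good1_of _ _ _ _ c_2_2_2_2_3_5_5_6 ⟨g_2_2_2_2_3_5_5_6_6, g_2_2_2_2_3_5_5_6_7, g_2_2_2_2_3_5_5_6_13, g_2_2_2_2_3_5_5_6_17⟩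
theorem g_2_2_2_2_3_5_6_6_7_7 : Good1 sv [7, 7, 6, 6, 5, 3, 2, 2, 2, 2] := good1_of _ _ _ _ c_2_2_2_2_3_5_6_6_7_7 trivial
theorem g_2_2_2_2_3_5_6_6_7 : Good1 sv [7, 6, 6, 5, 3, 2, 2, 2, 2] := good1_of _ _ _ _ c_2_2_2_2_3_5_6_6_7 g_2_2_2_2_3_5_6_6_7_7
theorem g_2_2_2_2_3_5_6_6_6 : Good1 sv [6, 6, 6, 5, 3, 2, 2, 2, 2] := good1_of _ _ _ _ c_2_2_2_2_3_5_6_6_6 trivial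
theorem g_2_2_2_2_3_5_6_7_7_7 : Good1 sv [7, 7, 7, 6, 5, 3, 2, 2, 2, 2] := good1_of _ _ _ _ c_2_2_2_2_3_5_6_7_7_7 trivial
theorem g_2_2_2_2_3_5_6_7_7 : Good1 sv [7, 7, 6, 5, 3, 2, 2, 2, 2] := good1_of _ _ _ _ c_2_2_2_2_3_5_6_7_7 g_2_2_2_2_3_5_6_7_7_7
theorem g_2_2_2_2_3_5_6_7_10 : Good1 sv [10, 7, 6, 5, 3, 2, 2, 2, 2] := good1_of _ _ _ _ c_2_2_2_2_3_5_6_7_10 trivial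
theorem g_2_2_2_2_3_5_6_7_13 : Good1 sv [13, 7, 6, 5, 3, 2, 2, 2, 2] := good1_of _ _ _ _ c_2_2_2_2_3_5_6_7_13 trivial
theorem g_2_2_2_2_3_5_6_7_11 : Good1 sv [11, 7, 6, 5, 3, 2, 2, 2, 2] := good1_of _ _ _ _ c_2_2_2_2_3_5_6_7_11 trivial
theorem g_2_2_2_2_3_5_6_10 : Good1 sv [10, 6, 5, 3, 2, 2, 2, 2] := good1_of _ _ _ _ c_2_2_2_2_3_5_6_10 trivial
theorem g_2_2_2_2_3_5_6_7 : Good1 sv [7, 6, 5, 3, 2, 2, 2, 2] := good1_of _ _ _ _ c_2_2_2_2_3_5_6_7 ⟨g_2_2_2_2_3_5_6_7_7, g_2_2_2_2_3_5_6_7_10, g_2_2_2_2_3_5_6_7_11, g_2_2_2_2_3_5_6_7_13⟩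
theorem g_2_2_2_2_3_5_6_6 : Good1 sv [6, 6, 5, 3, 2, 2, 2, 2] := good1_of _ _ _ _ c_2_2_2_2_3_5_6_6 ⟨g_2_2_2_2_3_5_6_6_6, g_2_2_2_2_3_5_6_6_7⟩
theorem g_2_2_2_2_3_5_6 : Good1 sv [6, 5, 3, 2, 2, 2, 2] := good1_of _ _ _ _ c_2_2_2_2_3_5_6 ⟨g_2_2_2_2_3_5_6_6, g_2_2_2_2_3_5_6_7, g_2_2_2_2_3_5_6_10⟩
theorem g_2_2_2_2_3_5_5 : Good1 sv [5, 5, 3, 2, 2, 2, 2] := good1_of _ _ _ _ c_2_2_2_2_3_5_5 g_2_2_2_2_3_5_5_6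
theorem g_2_2_2_2_3_5_7 : Good1 sv [7, 5, 3, 2, 2, 2, 2] := good1_of _ _ _ _ c_2_2_2_2_3_5_7 trivial
theorem g_2_2_2_2_3_3 : Good1 sv [3, 3, 2, 2, 2, 2] := good1_of _ _ _ _ c_2_2_2_2_3_3 ⟨g_2_2_2_2_3_3_3, g_2_2_2_2_3_3_5_5, g_2_2_2_2_3_3_6, g_2_2_2_2_3_3_5_6⟩
theorem g_2_2_2_2_3_6 : Good1 sv [6, 3, 2, 2, 2, 2] := good1_of _ _ _ _ c_2_2_2_2_3_6 ⟨g_2_2_2_2_3_6_7, g_2_2_2_2_3_6_6_7⟩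
theorem g_2_2_2_2_3 : Good1 sv [3, 2, 2, 2, 2] := good1_of _ _ _ _ c_2_2_2_2_3 ⟨g_2_2_2_2_3_3, g_2_2_2_2_3_5_5, g_2_2_2_2_3_6, g_2_2_2_2_3_5_6, g_2_2_2_2_3_5_7⟩
theorem g_2_2_2_2_2 : Good1 sv [2, 2, 2, 2, 2] := good1_of _ _ _ _ c_2_2_2_2_2 ⟨g_2_2_2_2_2_2, g_2_2_2_2_2_3⟩
theorem g_2_2_2_5_5 : Good1 sv [5, 5, 2, 2, 2] := good1_of _ _ _ _ c_2_2_2_5_5 trivial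
theorem g_2_2_2_3_3_3_3_5_6 : Good1 sv [6, 5, 3, 3, 3, 3, 2, 2, 2] := good1_of _ _ _ _ c_2_2_2_3_3_3_3_5_6 trivial
theorem g_2_2_2_3_3_3_3_6 : Good1 sv [6, 3, 3, 3, 3, 2, 2, 2] := good1_of _ _ _ _ c_2_2_2_3_3_3_3_6 trivial
theorem g_2_2_2_3_3_3_6_6_7 : Good1 sv [7, 6, 6, 3, 3, 3, 2, 2, 2] := good1_of _ _ _ _ c_2_2_2_3_3_3_6_6_7 trivial
theorem g_2_2_2_3_3_3_6_6 : Good1 sv [6, 6, 3, 3, 3, 2, 2, 2] := good1_of _ _ _ _ c_2_2_2_3_3_3_6_6 g_2_2_2_3_3_3_6_6_7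
theorem g_2_2_2_3_3_3_5_5_6_6 : Good1 sv [6, 6, 5, 5, 3, 3, 3, 2, 2, 2] := good1_of _ _ _ _ c_2_2_2_3_3_3_5_5_6_6 trivial
theorem g_2_2_2_3_3_3_5_5_6_7 : Good1 sv [7, 6, 5, 5, 3, 3, 3, 2, 2, 2] := good1_of _ _ _ _ c_2_2_2_3_3_3_5_5_6_7 trivial
theorem g_2_2_2_3_3_3_5_6_6_6 : Good1 sv [6, 6, 6, 5, 3, 3, 3, 2, 2, 2] := good1_of _ _ _ _ c_2_2_2_3_3_3_5_6_6_6 trivial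
theorem g_2_2_2_3_3_3_5_6_6 : Good1 sv [6, 6, 5, 3, 3, 3, 2, 2, 2] := good1_of _ _ _ _ c_2_2_2_3_3_3_5_6_6 g_2_2_2_3_3_3_5_6_6_6
theorem g_2_2_2_3_3_3_5_6_7 : Good1 sv [7, 6, 5, 3, 3, 3, 2, 2, 2] := good1_of _ _ _ _ c_2_2_2_3_3_3_5_6_7 trivial
theorem g_2_2_2_3_3_3_5_5 : Good1 sv [5, 5, 3, 3, 3, 2, 2, 2] := good1_of _ _ _ _ c_2_2_2_3_3_3_5_5 ⟨g_2_2_2_3_3_3_5_5_6_6, g_2_2_2_3_3_3_5_5_6_7⟩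
theorem g_2_2_2_3_3_3_5_6 : Good1 sv [6, 5, 3, 3, 3, 2, 2, 2] := good1_of _ _ _ _ c_2_2_2_3_3_3_5_6 ⟨g_2_2_2_3_3_3_5_6_6, g_2_2_2_3_3_3_5_6_7⟩
theorem g_2_2_2_3_3_3_3 : Good1 sv [3, 3, 3, 3, 2, 2, 2] := good1_of _ _ _ _ c_2_2_2_3_3_3_3 ⟨g_2_2_2_3_3_3_3_6, g_2_2_2_3_3_3_3_5_6⟩
theorem g_2_2_2_3_3_3_6 : Good1 sv [6, 3, 3, 3, 2, 2, 2] := good1_of _ _ _ _ c_2_2_2_3_3_3_6 g_2_2_2_3_3_3_6_6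
theorem g_2_2_2_3_3_6_6_7 : Good1 sv [7, 6, 6, 3, 3, 2, 2, 2] := good1_of _ _ _ _ c_2_2_2_3_3_6_6_7 trivial
theorem g_2_2_2_3_3_6_6 : Good1 sv [6, 6, 3, 3, 2, 2, 2] := good1_of _ _ _ _ c_2_2_2_3_3_6_6 g_2_2_2_3_3_6_6_7
theorem g_2_2_2_3_3_6_7 : Good1 sv [7, 6, 3, 3, 2, 2, 2] := good1_of _ _ _ _ c_2_2_2_3_3_6_7 trivial
theorem g_2_2_2_3_3_5_5_6_6_6 : Good1 sv [6, 6, 6, 5, 5, 3, 3, 2, 2, 2] := good1_of _ _ _ _ c_2_2_2_3_3_5_5_6_6_6 trivial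
theorem g_2_2_2_3_3_5_5_6_6_7 : Good1 sv [7, 6, 6, 5, 5, 3, 3, 2, 2, 2] := good1_of _ _ _ _ c_2_2_2_3_3_5_5_6_6_7 trivial
theorem g_2_2_2_3_3_5_5_6_6_13 : Good1 sv [13, 6, 6, 5, 5, 3, 3, 2, 2, 2] := good1_of _ _ _ _ c_2_2_2_3_3_5_5_6_6_13 trivial
theorem g_2_2_2_3_3_5_5_6_7_7 : Good1 sv [7, 7, 6, 5, 5, 3, 3, 2, 2, 2] := good1_of _ _ _ _ c_2_2_2_3_3_5_5_6_7_7 trivial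
theorem g_2_2_2_3_3_5_5_6_7_14 : Good1 sv [14, 7, 6, 5, 5, 3, 3, 2, 2, 2] := good1_of _ _ _ _ c_2_2_2_3_3_5_5_6_7_14 trivial
theorem g_2_2_2_3_3_5_5_6_7 : Good1 sv [7, 6, 5, 5, 3, 3, 2, 2, 2] := good1_of _ _ _ _ c_2_2_2_3_3_5_5_6_7 ⟨g_2_2_2_3_3_5_5_6_7_7, g_2_2_2_3_3_5_5_6_7_14⟩
theorem g_2_2_2_3_3_5_5_6_6 : Good1 sv [6, 6, 5, 5, 3, 3, 2, 2, 2] := good1_of _ _ _ _ c_2_2_2_3_3_5_5_6_6 ⟨g_2_2_2_3_3_5_5_6_6_6, g_2_2_2_3_3_5_5_6_6_7, g_2_2_2_3_3_5_5_6_6_13⟩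
theorem g_2_2_2_3_3_5_5_6_13 : Good1 sv [13, 6, 5, 5, 3, 3, 2, 2, 2] := good1_of _ _ _ _ c_2_2_2_3_3_5_5_6_13 trivial
theorem g_2_2_2_3_3_5_5_6_11 : Good1 sv [11, 6, 5, 5, 3, 3, 2, 2, 2] := good1_of _ _ _ _ c_2_2_2_3_3_5_5_6_11 trivial
theorem g_2_2_2_3_3_5_5_6 : Good1 sv [6, 5, 5, 3, 3, 2, 2, 2] := good1_of _ _ _ _ c_2_2_2_3_3_5_5_6 ⟨g_2_2_2_3_3_5_5_6_6, g_2_2_2_3_3_5_5_6_7, g_2_2_2_3_3_5_5_6_11, g_2_2_2_3_3_5_5_6_13⟩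
theorem g_2_2_2_3_3_5_6_6_6_7 : Good1 sv [7, 6, 6, 6, 5, 3, 3, 2, 2, 2] := good1_of _ _ _ _ c_2_2_2_3_3_5_6_6_6_7 trivial
theorem g_2_2_2_3_3_5_6_6_7_7 : Good1 sv [7, 7, 6, 6, 5, 3, 3, 2, 2, 2] := good1_of _ _ _ _ c_2_2_2_3_3_5_6_6_7_7 trivial
theorem g_2_2_2_3_3_5_6_6_7 : Good1 sv [7, 6, 6, 5, 3, 3, 2, 2, 2] := good1_of _ _ _ _ c_2_2_2_3_3_5_6_6_7 g_2_2_2_3_3_5_6_6_7_7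
theorem g_2_2_2_3_3_5_6_6_6 : Good1 sv [6, 6, 6, 5, 3, 3, 2, 2, 2] := good1_of _ _ _ _ c_2_2_2_3_3_5_6_6_6 g_2_2_2_3_3_5_6_6_6_7
theorem g_2_2_2_3_3_5_6_6_10 : Good1 sv [10, 6, 6, 5, 3, 3, 2, 2, 2] := good1_of _ _ _ _ c_2_2_2_3_3_5_6_6_10 trivial
theorem g_2_2_2_3_3_5_6_7_7 : Good1 sv [7, 7, 6, 5, 3, 3, 2, 2, 2] := good1_of _ _ _ _ c_2_2_2_3_3_5_6_7_7 trivial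
theorem g_2_2_2_3_3_5_6_7_10 : Good1 sv [10, 7, 6, 5, 3, 3, 2, 2, 2] := good1_of _ _ _ _ c_2_2_2_3_3_5_6_7_10 trivial
theorem g_2_2_2_3_3_5_6_7_13 : Good1 sv [13, 7, 6, 5, 3, 3, 2, 2, 2] := good1_of _ _ _ _ c_2_2_2_3_3_5_6_7_13 trivial
theorem g_2_2_2_3_3_5_6_6 : Good1 sv [6, 6, 5, 3, 3, 2, 2, 2] := good1_of _ _ _ _ c_2_2_2_3_3_5_6_6 ⟨g_2_2_2_3_3_5_6_6_6, g_2_2_2_3_3_5_6_6_7, g_2_2_2_3_3_5_6_6_10⟩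
theorem g_2_2_2_3_3_5_6_7 : Good1 sv [7, 6, 5, 3, 3, 2, 2, 2] := good1_of _ _ _ _ c_2_2_2_3_3_5_6_7 ⟨g_2_2_2_3_3_5_6_7_7, g_2_2_2_3_3_5_6_7_10, g_2_2_2_3_3_5_6_7_13⟩
theorem g_2_2_2_3_3_5_6_10 : Good1 sv [10, 6, 5, 3, 3, 2, 2, 2] := good1_of _ _ _ _ c_2_2_2_3_3_5_6_10 trivial
theorem g_2_2_2_3_3_5_6 : Good1 sv [6, 5, 3, 3, 2, 2, 2] := good1_of _ _ _ _ c_2_2_2_3_3_5_6 ⟨g_2_2_2_3_3_5_6_6, g_2_2_2_3_3_5_6_7, g_2_2_2_3_3_5_6_10⟩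
theorem g_2_2_2_3_3_5_5 : Good1 sv [5, 5, 3, 3, 2, 2, 2] := good1_of _ _ _ _ c_2_2_2_3_3_5_5 g_2_2_2_3_3_5_5_6
theorem g_2_2_2_3_3_5 : Good1 sv [5, 3, 3, 2, 2, 2] := good1_of _ _ _ _ c_2_2_2_3_3_5 ⟨g_2_2_2_3_3_5_5, g_2_2_2_3_3_5_6⟩
theorem g_2_2_2_3_6_6_7 : Good1 sv [7, 6, 6, 3, 2, 2, 2] := good1_of _ _ _ _ c_2_2_2_3_6_6_7 trivial
theorem g_2_2_2_3_6_7_7 : Good1 sv [7, 7, 6, 3, 2, 2, 2] := good1_of _ _ _ _ c_2_2_2_3_6_7_7 trivial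
theorem g_2_2_2_3_6_6 : Good1 sv [6, 6, 3, 2, 2, 2] := good1_of _ _ _ _ c_2_2_2_3_6_6 g_2_2_2_3_6_6_7
theorem g_2_2_2_3_5_5_6_6_6_7 : Good1 sv [7, 6, 6, 6, 5, 5, 3, 2, 2, 2] := good1_of _ _ _ _ c_2_2_2_3_5_5_6_6_6_7 trivial
theorem g_2_2_2_3_5_5_6_6_7_7 : Good1 sv [7, 7, 6, 6, 5, 5, 3, 2, 2, 2] := good1_of _ _ _ _ c_2_2_2_3_5_5_6_6_7_7 trivial
theorem g_2_2_2_3_5_5_6_6_7 : Good1 sv [7, 6, 6, 5, 5, 3, 2, 2, 2] := good1_of _ _ _ _ c_2_2_2_3_5_5_6_6_7 g_2_2_2_3_5_5_6_6_7_7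
theorem g_2_2_2_3_5_5_6_6_6 : Good1 sv [6, 6, 6, 5, 5, 3, 2, 2, 2] := good1_of _ _ _ _ c_2_2_2_3_5_5_6_6_6 g_2_2_2_3_5_5_6_6_6_7
theorem g_2_2_2_3_5_5_6_6_13 : Good1 sv [13, 6, 6, 5, 5, 3, 2, 2, 2] := good1_of _ _ _ _ c_2_2_2_3_5_5_6_6_13 trivial
theorem g_2_2_2_3_5_5_6_7_7_7 : Good1 sv [7, 7, 7, 6, 5, 5, 3, 2, 2, 2] := good1_of _ _ _ _ c_2_2_2_3_5_5_6_7_7_7 trivial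
theorem g_2_2_2_3_5_5_6_7_13 : Good1 sv [13, 7, 6, 5, 5, 3, 2, 2, 2] := good1_of _ _ _ _ c_2_2_2_3_5_5_6_7_13 trivial
theorem g_2_2_2_3_5_5_6_7_7 : Good1 sv [7, 7, 6, 5, 5, 3, 2, 2, 2] := good1_of _ _ _ _ c_2_2_2_3_5_5_6_7_7 g_2_2_2_3_5_5_6_7_7_7
theorem g_2_2_2_3_5_5_6_7_14 : Good1 sv [14, 7, 6, 5, 5, 3, 2, 2, 2] := good1_of _ _ _ _ c_2_2_2_3_5_5_6_7_14 trivial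
theorem g_2_2_2_3_5_5_6_7_11 : Good1 sv [11, 7, 6, 5, 5, 3, 2, 2, 2] := good1_of _ _ _ _ c_2_2_2_3_5_5_6_7_11 trivial
theorem g_2_2_2_3_5_5_6_7 : Good1 sv [7, 6, 5, 5, 3, 2, 2, 2] := good1_of _ _ _ _ c_2_2_2_3_5_5_6_7 ⟨g_2_2_2_3_5_5_6_7_7, g_2_2_2_3_5_5_6_7_11, g_2_2_2_3_5_5_6_7_13, g_2_2_2_3_5_5_6_7_14⟩
theorem g_2_2_2_3_5_5_6_6 : Good1 sv [6, 6, 5, 5, 3, 2, 2, 2] := good1_of _ _ _ _ c_2_2_2_3_5_5_6_6 ⟨g_2_2_2_3_5_5_6_6_6, g_2_2_2_3_5_5_6_6_7, g_2_2_2_3_5_5_6_6_13⟩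
theorem g_2_2_2_3_5_5_6_10 : Good1 sv [10, 6, 5, 5, 3, 2, 2, 2] := good1_of _ _ _ _ c_2_2_2_3_5_5_6_10 trivial
theorem g_2_2_2_3_5_5_6_13 : Good1 sv [13, 6, 5, 5, 3, 2, 2, 2] := good1_of _ _ _ _ c_2_2_2_3_5_5_6_13 trivial
theorem g_2_2_2_3_5_5_6 : Good1 sv [6, 5, 5, 3, 2, 2, 2] := good1_of _ _ _ _ c_2_2_2_3_5_5_6 ⟨g_2_2_2_3_5_5_6_6, g_2_2_2_3_5_5_6_7, g_2_2_2_3_5_5_6_10, g_2_2_2_3_5_5_6_13⟩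
theorem g_2_2_2_3_5_5_7 : Good1 sv [7, 5, 5, 3, 2, 2, 2] := good1_of _ _ _ _ c_2_2_2_3_5_5_7 trivial
theorem g_2_2_2_3_5_6_6_6_7 : Good1 sv [7, 6, 6, 6, 5, 3, 2, 2, 2] := good1_of _ _ _ _ c_2_2_2_3_5_6_6_6_7 trivial
theorem g_2_2_2_3_5_6_6_7_7 : Good1 sv [7, 7, 6, 6, 5, 3, 2, 2, 2] := good1_of _ _ _ _ c_2_2_2_3_5_6_6_7_7 trivial
theorem g_2_2_2_3_5_6_6_7_10 : Good1 sv [10, 7, 6, 6, 5, 3, 2, 2, 2] := good1_of _ _ _ _ c_2_2_2_3_5_6_6_7_10 trivial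
theorem g_2_2_2_3_5_6_6_7 : Good1 sv [7, 6, 6, 5, 3, 2, 2, 2] := good1_of _ _ _ _ c_2_2_2_3_5_6_6_7 ⟨g_2_2_2_3_5_6_6_7_7, g_2_2_2_3_5_6_6_7_10⟩
theorem g_2_2_2_3_5_6_6_6 : Good1 sv [6, 6, 6, 5, 3, 2, 2, 2] := good1_of _ _ _ _ c_2_2_2_3_5_6_6_6 g_2_2_2_3_5_6_6_6_7
theorem g_2_2_2_3_5_6_10_10 : Good1 sv [10, 10, 6, 5, 3, 2, 2, 2] := good1_of _ _ _ _ c_2_2_2_3_5_6_10_10 trivial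
theorem g_2_2_2_3_5_6_7_7_10 : Good1 sv [10, 7, 7, 6, 5, 3, 2, 2, 2] := good1_of _ _ _ _ c_2_2_2_3_5_6_7_7_10 trivial
theorem g_2_2_2_3_5_6_7_7_7 : Good1 sv [7, 7, 7, 6, 5, 3, 2, 2, 2] := good1_of _ _ _ _ c_2_2_2_3_5_6_7_7_7 trivial
theorem g_2_2_2_3_5_6_7_7_13 : Good1 sv [13, 7, 7, 6, 5, 3, 2, 2, 2] := good1_of _ _ _ _ c_2_2_2_3_5_6_7_7_13 trivial
theorem g_2_2_2_3_5_6_7_10_10 : Good1 sv [10, 10, 7, 6, 5, 3, 2, 2, 2] := good1_of _ _ _ _ c_2_2_2_3_5_6_7_10_10 trivial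
theorem g_2_2_2_3_5_6_7_10_11 : Good1 sv [11, 10, 7, 6, 5, 3, 2, 2, 2] := good1_of _ _ _ _ c_2_2_2_3_5_6_7_10_11 trivial
theorem g_2_2_2_3_5_6_7_7 : Good1 sv [7, 7, 6, 5, 3, 2, 2, 2] := good1_of _ _ _ _ c_2_2_2_3_5_6_7_7 ⟨g_2_2_2_3_5_6_7_7_7, g_2_2_2_3_5_6_7_7_10, g_2_2_2_3_5_6_7_7_13⟩
theorem g_2_2_2_3_5_6_7_13 : Good1 sv [13, 7, 6, 5, 3, 2, 2, 2] := good1_of _ _ _ _ c_2_2_2_3_5_6_7_13 trivial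
theorem g_2_2_2_3_5_6_7_10 : Good1 sv [10, 7, 6, 5, 3, 2, 2, 2] := good1_of _ _ _ _ c_2_2_2_3_5_6_7_10 ⟨g_2_2_2_3_5_6_7_10_10, g_2_2_2_3_5_6_7_10_11⟩
theorem g_2_2_2_3_5_6_7 : Good1 sv [7, 6, 5, 3, 2, 2, 2] := good1_of _ _ _ _ c_2_2_2_3_5_6_7 ⟨g_2_2_2_3_5_6_7_7, g_2_2_2_3_5_6_7_10, g_2_2_2_3_5_6_7_13⟩
theorem g_2_2_2_3_5_6_6 : Good1 sv [6, 6, 5, 3, 2, 2, 2] := good1_of _ _ _ _ c_2_2_2_3_5_6_6 ⟨g_2_2_2_3_5_6_6_6, g_2_2_2_3_5_6_6_7⟩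
theorem g_2_2_2_3_5_6_10 : Good1 sv [10, 6, 5, 3, 2, 2, 2] := good1_of _ _ _ _ c_2_2_2_3_5_6_10 g_2_2_2_3_5_6_10_10
theorem g_2_2_2_3_5_7_7_10 : Good1 sv [10, 7, 7, 5, 3, 2, 2, 2] := good1_of _ _ _ _ c_2_2_2_3_5_7_7_10 trivial
theorem g_2_2_2_3_5_6 : Good1 sv [6, 5, 3, 2, 2, 2] := good1_of _ _ _ _ c_2_2_2_3_5_6 ⟨g_2_2_2_3_5_6_6, g_2_2_2_3_5_6_7, g_2_2_2_3_5_6_10⟩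
theorem g_2_2_2_3_5_5 : Good1 sv [5, 5, 3, 2, 2, 2] := good1_of _ _ _ _ c_2_2_2_3_5_5 ⟨g_2_2_2_3_5_5_6, g_2_2_2_3_5_5_7⟩
theorem g_2_2_2_3_5_7 : Good1 sv [7, 5, 3, 2, 2, 2] := good1_of _ _ _ _ c_2_2_2_3_5_7 g_2_2_2_3_5_7_7_10
theorem g_2_2_2_3_3 : Good1 sv [3, 3, 2, 2, 2] := good1_of _ _ _ _ c_2_2_2_3_3 ⟨g_2_2_2_3_3_3_3, g_2_2_2_3_3_5, g_2_2_2_3_3_3_5_5, g_2_2_2_3_3_3_6, g_2_2_2_3_3_3_5_6, g_2_2_2_3_3_6_6, g_2_2_2_3_3_6_7⟩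
theorem g_2_2_2_3_5 : Good1 sv [5, 3, 2, 2, 2] := good1_of _ _ _ _ c_2_2_2_3_5 ⟨g_2_2_2_3_5_5, g_2_2_2_3_5_6, g_2_2_2_3_5_7⟩
theorem g_2_2_2_2 : Good1 sv [2, 2, 2, 2] := good1_of _ _ _ _ c_2_2_2_2 ⟨g_2_2_2_2_2, g_2_2_2_2_3, g_2_2_2_2_5_5⟩
theorem g_2_2_2_3 : Good1 sv [3, 2, 2, 2] := good1_of _ _ _ _ c_2_2_2_3 ⟨g_2_2_2_3_3, g_2_2_2_3_5, g_2_2_2_3_6_6, g_2_2_2_3_6_7_7⟩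
theorem g_2_2_5_5_5 : Good1 sv [5, 5, 5, 2, 2] := good1_of _ _ _ _ c_2_2_5_5_5 trivial
theorem g_2_2_5_5 : Good1 sv [5, 5, 2, 2] := good1_of _ _ _ _ c_2_2_5_5 g_2_2_5_5_5
theorem g_2_2_3_3_3_3_3_5 : Good1 sv [5, 3, 3, 3, 3, 3, 2, 2] := good1_of _ _ _ _ c_2_2_3_3_3_3_3_5 trivial
theorem g_2_2_3_3_3_3_6_6 : Good1 sv [6, 6, 3, 3, 3, 3, 2, 2] := good1_of _ _ _ _ c_2_2_3_3_3_3_6_6 trivial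
theorem g_2_2_3_3_3_3_5_5_6_6 : Good1 sv [6, 6, 5, 5, 3, 3, 3, 3, 2, 2] := good1_of _ _ _ _ c_2_2_3_3_3_3_5_5_6_6 trivial
theorem g_2_2_3_3_3_3_5_6_6 : Good1 sv [6, 6, 5, 3, 3, 3, 3, 2, 2] := good1_of _ _ _ _ c_2_2_3_3_3_3_5_6_6 trivial
theorem g_2_2_3_3_3_3_5_6_7 : Good1 sv [7, 6, 5, 3, 3, 3, 3, 2, 2] := good1_of _ _ _ _ c_2_2_3_3_3_3_5_6_7 trivial
theorem g_2_2_3_3_3_3_5_5 : Good1 sv [5, 5, 3, 3, 3, 3, 2, 2] := good1_of _ _ _ _ c_2_2_3_3_3_3_5_5 g_2_2_3_3_3_3_5_5_6_6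
theorem g_2_2_3_3_3_3_5 : Good1 sv [5, 3, 3, 3, 3, 2, 2] := good1_of _ _ _ _ c_2_2_3_3_3_3_5 ⟨g_2_2_3_3_3_3_5_5, g_2_2_3_3_3_3_5_6_6, g_2_2_3_3_3_3_5_6_7⟩
theorem g_2_2_3_3_3_3_3 : Good1 sv [3, 3, 3, 3, 3, 2, 2] := good1_of _ _ _ _ c_2_2_3_3_3_3_3 g_2_2_3_3_3_3_3_5
theorem g_2_2_3_3_3_6_6_6_7 : Good1 sv [7, 6, 6, 6, 3, 3, 3, 2, 2] := good1_of _ _ _ _ c_2_2_3_3_3_6_6_6_7 trivial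
theorem g_2_2_3_3_3_6_6_7 : Good1 sv [7, 6, 6, 3, 3, 3, 2, 2] := good1_of _ _ _ _ c_2_2_3_3_3_6_6_7 trivial
theorem g_2_2_3_3_3_6_7 : Good1 sv [7, 6, 3, 3, 3, 2, 2] := good1_of _ _ _ _ c_2_2_3_3_3_6_7 trivial
theorem g_2_2_3_3_3_6_6 : Good1 sv [6, 6, 3, 3, 3, 2, 2] := good1_of _ _ _ _ c_2_2_3_3_3_6_6 ⟨g_2_2_3_3_3_6_6_7, g_2_2_3_3_3_6_6_6_7⟩
theorem g_2_2_3_3_3_5_5_6_6_6 : Good1 sv [6, 6, 6, 5, 5, 3, 3, 3, 2, 2] := good1_of _ _ _ _ c_2_2_3_3_3_5_5_6_6_6 trivial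
theorem g_2_2_3_3_3_5_5_6_6_7 : Good1 sv [7, 6, 6, 5, 5, 3, 3, 3, 2, 2] := good1_of _ _ _ _ c_2_2_3_3_3_5_5_6_6_7 trivial
theorem g_2_2_3_3_3_5_5_6_7_7 : Good1 sv [7, 7, 6, 5, 5, 3, 3, 3, 2, 2] := good1_of _ _ _ _ c_2_2_3_3_3_5_5_6_7_7 trivial
theorem g_2_2_3_3_3_5_5_6_7 : Good1 sv [7, 6, 5, 5, 3, 3, 3, 2, 2] := good1_of _ _ _ _ c_2_2_3_3_3_5_5_6_7 g_2_2_3_3_3_5_5_6_7_7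
theorem g_2_2_3_3_3_5_5_6_6 : Good1 sv [6, 6, 5, 5, 3, 3, 3, 2, 2] := good1_of _ _ _ _ c_2_2_3_3_3_5_5_6_6 ⟨g_2_2_3_3_3_5_5_6_6_6, g_2_2_3_3_3_5_5_6_6_7⟩
theorem g_2_2_3_3_3_5_5_6_13 : Good1 sv [13, 6, 5, 5, 3, 3, 3, 2, 2] := good1_of _ _ _ _ c_2_2_3_3_3_5_5_6_13 trivial
theorem g_2_2_3_3_3_5_5_6 : Good1 sv [6, 5, 5, 3, 3, 3, 2, 2] := good1_of _ _ _ _ c_2_2_3_3_3_5_5_6 ⟨g_2_2_3_3_3_5_5_6_6, g_2_2_3_3_3_5_5_6_7, g_2_2_3_3_3_5_5_6_13⟩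
theorem g_2_2_3_3_3_5_6_6_6_7 : Good1 sv [7, 6, 6, 6, 5, 3, 3, 3, 2, 2] := good1_of _ _ _ _ c_2_2_3_3_3_5_6_6_6_7 trivial
theorem g_2_2_3_3_3_5_6_6_6_6 : Good1 sv [6, 6, 6, 6, 5, 3, 3, 3, 2, 2] := good1_of _ _ _ _ c_2_2_3_3_3_5_6_6_6_6 trivial
theorem g_2_2_3_3_3_5_6_6_7_7 : Good1 sv [7, 7, 6, 6, 5, 3, 3, 3, 2, 2] := good1_of _ _ _ _ c_2_2_3_3_3_5_6_6_7_7 trivial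
theorem g_2_2_3_3_3_5_6_6_7 : Good1 sv [7, 6, 6, 5, 3, 3, 3, 2, 2] := good1_of _ _ _ _ c_2_2_3_3_3_5_6_6_7 g_2_2_3_3_3_5_6_6_7_7
theorem g_2_2_3_3_3_5_6_6_6 : Good1 sv [6, 6, 6, 5, 3, 3, 3, 2, 2] := good1_of _ _ _ _ c_2_2_3_3_3_5_6_6_6 ⟨g_2_2_3_3_3_5_6_6_6_6, g_2_2_3_3_3_5_6_6_6_7⟩
theorem g_2_2_3_3_3_5_6_7_7 : Good1 sv [7, 7, 6, 5, 3, 3, 3, 2, 2] := good1_of _ _ _ _ c_2_2_3_3_3_5_6_7_7 trivial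
theorem g_2_2_3_3_3_5_6_7_10 : Good1 sv [10, 7, 6, 5, 3, 3, 3, 2, 2] := good1_of _ _ _ _ c_2_2_3_3_3_5_6_7_10 trivial
theorem g_2_2_3_3_3_5_6_6 : Good1 sv [6, 6, 5, 3, 3, 3, 2, 2] := good1_of _ _ _ _ c_2_2_3_3_3_5_6_6 ⟨g_2_2_3_3_3_5_6_6_6, g_2_2_3_3_3_5_6_6_7⟩
theorem g_2_2_3_3_3_5_6_7 : Good1 sv [7, 6, 5, 3, 3, 3, 2, 2] := good1_of _ _ _ _ c_2_2_3_3_3_5_6_7 ⟨g_2_2_3_3_3_5_6_7_7, g_2_2_3_3_3_5_6_7_10⟩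
theorem g_2_2_3_3_3_5_6 : Good1 sv [6, 5, 3, 3, 3, 2, 2] := good1_of _ _ _ _ c_2_2_3_3_3_5_6 ⟨g_2_2_3_3_3_5_6_6, g_2_2_3_3_3_5_6_7⟩
theorem g_2_2_3_3_3_5_5 : Good1 sv [5, 5, 3, 3, 3, 2, 2] := good1_of _ _ _ _ c_2_2_3_3_3_5_5 g_2_2_3_3_3_5_5_6
theorem g_2_2_3_3_3_3 : Good1 sv [3, 3, 3, 3, 2, 2] := good1_of _ _ _ _ c_2_2_3_3_3_3 ⟨g_2_2_3_3_3_3_3, g_2_2_3_3_3_3_5, g_2_2_3_3_3_3_6_6⟩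
theorem g_2_2_3_3_3_5 : Good1 sv [5, 3, 3, 3, 2, 2] := good1_of _ _ _ _ c_2_2_3_3_3_5 ⟨g_2_2_3_3_3_5_5, g_2_2_3_3_3_5_6⟩
theorem g_2_2_3_3_6_6_6_7 : Good1 sv [7, 6, 6, 6, 3, 3, 2, 2] := good1_of _ _ _ _ c_2_2_3_3_6_6_6_7 trivial
theorem g_2_2_3_3_6_6_7 : Good1 sv [7, 6, 6, 3, 3, 2, 2] := good1_of _ _ _ _ c_2_2_3_3_6_6_7 trivial
theorem g_2_2_3_3_6_7_7 : Good1 sv [7, 7, 6, 3, 3, 2, 2] := good1_of _ _ _ _ c_2_2_3_3_6_7_7 trivial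
theorem g_2_2_3_3_6_6 : Good1 sv [6, 6, 3, 3, 2, 2] := good1_of _ _ _ _ c_2_2_3_3_6_6 ⟨g_2_2_3_3_6_6_7, g_2_2_3_3_6_6_6_7⟩
theorem g_2_2_3_3_5_5_6_6_6_7 : Good1 sv [7, 6, 6, 6, 5, 5, 3, 3, 2, 2] := good1_of _ _ _ _ c_2_2_3_3_5_5_6_6_6_7 trivial
theorem g_2_2_3_3_5_5_6_6_6_6 : Good1 sv [6, 6, 6, 6, 5, 5, 3, 3, 2, 2] := good1_of _ _ _ _ c_2_2_3_3_5_5_6_6_6_6 trivial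
theorem g_2_2_3_3_5_5_6_6_7_7 : Good1 sv [7, 7, 6, 6, 5, 5, 3, 3, 2, 2] := good1_of _ _ _ _ c_2_2_3_3_5_5_6_6_7_7 trivial
theorem g_2_2_3_3_5_5_6_6_7_14 : Good1 sv [14, 7, 6, 6, 5, 5, 3, 3, 2, 2] := good1_of _ _ _ _ c_2_2_3_3_5_5_6_6_7_14 trivial
theorem g_2_2_3_3_5_5_6_6_7_13 : Good1 sv [13, 7, 6, 6, 5, 5, 3, 3, 2, 2] := good1_of _ _ _ _ c_2_2_3_3_5_5_6_6_7_13 trivial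
theorem g_2_2_3_3_5_5_6_6_7 : Good1 sv [7, 6, 6, 5, 5, 3, 3, 2, 2] := good1_of _ _ _ _ c_2_2_3_3_5_5_6_6_7 ⟨g_2_2_3_3_5_5_6_6_7_7, g_2_2_3_3_5_5_6_6_7_13, g_2_2_3_3_5_5_6_6_7_14⟩
theorem g_2_2_3_3_5_5_6_6_6 : Good1 sv [6, 6, 6, 5, 5, 3, 3, 2, 2] := good1_of _ _ _ _ c_2_2_3_3_5_5_6_6_6 ⟨g_2_2_3_3_5_5_6_6_6_6, g_2_2_3_3_5_5_6_6_6_7⟩
theorem g_2_2_3_3_5_5_6_6_13 : Good1 sv [13, 6, 6, 5, 5, 3, 3, 2, 2] := good1_of _ _ _ _ c_2_2_3_3_5_5_6_6_13 trivial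
theorem g_2_2_3_3_5_5_6_6_11 : Good1 sv [11, 6, 6, 5, 5, 3, 3, 2, 2] := good1_of _ _ _ _ c_2_2_3_3_5_5_6_6_11 trivial
theorem g_2_2_3_3_5_5_6_7_7_7 : Good1 sv [7, 7, 7, 6, 5, 5, 3, 3, 2, 2] := good1_of _ _ _ _ c_2_2_3_3_5_5_6_7_7_7 trivial
theorem g_2_2_3_3_5_5_6_7_7 : Good1 sv [7, 7, 6, 5, 5, 3, 3, 2, 2] := good1_of _ _ _ _ c_2_2_3_3_5_5_6_7_7 g_2_2_3_3_5_5_6_7_7_7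
theorem g_2_2_3_3_5_5_6_7_13 : Good1 sv [13, 7, 6, 5, 5, 3, 3, 2, 2] := good1_of _ _ _ _ c_2_2_3_3_5_5_6_7_13 trivial
theorem g_2_2_3_3_5_5_6_7_19 : Good1 sv [19, 7, 6, 5, 5, 3, 3, 2, 2] := good1_of _ _ _ _ c_2_2_3_3_5_5_6_7_19 trivial
theorem g_2_2_3_3_5_5_6_7_11 : Good1 sv [11, 7, 6, 5, 5, 3, 3, 2, 2] := good1_of _ _ _ _ c_2_2_3_3_5_5_6_7_11 trivial
theorem g_2_2_3_3_5_5_6_7 : Good1 sv [7, 6, 5, 5, 3, 3, 2, 2] := good1_of _ _ _ _ c_2_2_3_3_5_5_6_7 ⟨g_2_2_3_3_5_5_6_7_7, g_2_2_3_3_5_5_6_7_11, g_2_2_3_3_5_5_6_7_13, g_2_2_3_3_5_5_6_7_19⟩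
theorem g_2_2_3_3_5_5_6_6 : Good1 sv [6, 6, 5, 5, 3, 3, 2, 2] := good1_of _ _ _ _ c_2_2_3_3_5_5_6_6 ⟨g_2_2_3_3_5_5_6_6_6, g_2_2_3_3_5_5_6_6_7, g_2_2_3_3_5_5_6_6_11, g_2_2_3_3_5_5_6_6_13⟩
theorem g_2_2_3_3_5_5_6_13 : Good1 sv [13, 6, 5, 5, 3, 3, 2, 2] := good1_of _ _ _ _ c_2_2_3_3_5_5_6_13 trivial
theorem g_2_2_3_3_5_5_6 : Good1 sv [6, 5, 5, 3, 3, 2, 2] := good1_of _ _ _ _ c_2_2_3_3_5_5_6 ⟨g_2_2_3_3_5_5_6_6, g_2_2_3_3_5_5_6_7, g_2_2_3_3_5_5_6_13⟩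
theorem g_2_2_3_3_5_5_7 : Good1 sv [7, 5, 5, 3, 3, 2, 2] := good1_of _ _ _ _ c_2_2_3_3_5_5_7 trivial
theorem g_2_2_3_3_5_6_6_6_7_7 : Good1 sv [7, 7, 6, 6, 6, 5, 3, 3, 2, 2] := good1_of _ _ _ _ c_2_2_3_3_5_6_6_6_7_7 trivial
theorem g_2_2_3_3_5_6_6_6_7 : Good1 sv [7, 6, 6, 6, 5, 3, 3, 2, 2] := good1_of _ _ _ _ c_2_2_3_3_5_6_6_6_7 g_2_2_3_3_5_6_6_6_7_7
theorem g_2_2_3_3_5_6_6_6_6 : Good1 sv [6, 6, 6, 6, 5, 3, 3, 2, 2] := good1_of _ _ _ _ c_2_2_3_3_5_6_6_6_6 trivial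
theorem g_2_2_3_3_5_6_6_7_7_7 : Good1 sv [7, 7, 7, 6, 6, 5, 3, 3, 2, 2] := good1_of _ _ _ _ c_2_2_3_3_5_6_6_7_7_7 trivial
theorem g_2_2_3_3_5_6_6_7_7 : Good1 sv [7, 7, 6, 6, 5, 3, 3, 2, 2] := good1_of _ _ _ _ c_2_2_3_3_5_6_6_7_7 g_2_2_3_3_5_6_6_7_7_7
theorem g_2_2_3_3_5_6_6_7_10 : Good1 sv [10, 7, 6, 6, 5, 3, 3, 2, 2] := good1_of _ _ _ _ c_2_2_3_3_5_6_6_7_10 trivial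
theorem g_2_2_3_3_5_6_6_7_13 : Good1 sv [13, 7, 6, 6, 5, 3, 3, 2, 2] := good1_of _ _ _ _ c_2_2_3_3_5_6_6_7_13 trivial
theorem g_2_2_3_3_5_6_6_7 : Good1 sv [7, 6, 6, 5, 3, 3, 2, 2] := good1_of _ _ _ _ c_2_2_3_3_5_6_6_7 ⟨g_2_2_3_3_5_6_6_7_7, g_2_2_3_3_5_6_6_7_10, g_2_2_3_3_5_6_6_7_13⟩
theorem g_2_2_3_3_5_6_6_6 : Good1 sv [6, 6, 6, 5, 3, 3, 2, 2] := good1_of _ _ _ _ c_2_2_3_3_5_6_6_6 ⟨g_2_2_3_3_5_6_6_6_6, g_2_2_3_3_5_6_6_6_7⟩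
theorem g_2_2_3_3_5_6_6_10 : Good1 sv [10, 6, 6, 5, 3, 3, 2, 2] := good1_of _ _ _ _ c_2_2_3_3_5_6_6_10 trivial
theorem g_2_2_3_3_5_6_7_7_7 : Good1 sv [7, 7, 7, 6, 5, 3, 3, 2, 2] := good1_of _ _ _ _ c_2_2_3_3_5_6_7_7_7 trivial
theorem g_2_2_3_3_5_6_7_7_10 : Good1 sv [10, 7, 7, 6, 5, 3, 3, 2, 2] := good1_of _ _ _ _ c_2_2_3_3_5_6_7_7_10 trivial
theorem g_2_2_3_3_5_6_7_7 : Good1 sv [7, 7, 6, 5, 3, 3, 2, 2] := good1_of _ _ _ _ c_2_2_3_3_5_6_7_7 ⟨g_2_2_3_3_5_6_7_7_7, g_2_2_3_3_5_6_7_7_10⟩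
theorem g_2_2_3_3_5_6_7_10 : Good1 sv [10, 7, 6, 5, 3, 3, 2, 2] := good1_of _ _ _ _ c_2_2_3_3_5_6_7_10 trivial
theorem g_2_2_3_3_5_6_7_13 : Good1 sv [13, 7, 6, 5, 3, 3, 2, 2] := good1_of _ _ _ _ c_2_2_3_3_5_6_7_13 trivial
theorem g_2_2_3_3_5_6_6 : Good1 sv [6, 6, 5, 3, 3, 2, 2] := good1_of _ _ _ _ c_2_2_3_3_5_6_6 ⟨g_2_2_3_3_5_6_6_6, g_2_2_3_3_5_6_6_7, g_2_2_3_3_5_6_6_10⟩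
theorem g_2_2_3_3_5_6_7 : Good1 sv [7, 6, 5, 3, 3, 2, 2] := good1_of _ _ _ _ c_2_2_3_3_5_6_7 ⟨g_2_2_3_3_5_6_7_7, g_2_2_3_3_5_6_7_10, g_2_2_3_3_5_6_7_13⟩
theorem g_2_2_3_3_5_6_10 : Good1 sv [10, 6, 5, 3, 3, 2, 2] := good1_of _ _ _ _ c_2_2_3_3_5_6_10 trivial
theorem g_2_2_3_3_5_7 : Good1 sv [7, 5, 3, 3, 2, 2] := good1_of _ _ _ _ c_2_2_3_3_5_7 trivial
theorem g_2_2_3_3_5_6 : Good1 sv [6, 5, 3, 3, 2, 2] := good1_of _ _ _ _ c_2_2_3_3_5_6 ⟨g_2_2_3_3_5_6_6, g_2_2_3_3_5_6_7, g_2_2_3_3_5_6_10⟩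
theorem g_2_2_3_3_5_5 : Good1 sv [5, 5, 3, 3, 2, 2] := good1_of _ _ _ _ c_2_2_3_3_5_5 ⟨g_2_2_3_3_5_5_6, g_2_2_3_3_5_5_7⟩
theorem g_2_2_3_3_6 : Good1 sv [6, 3, 3, 2, 2] := good1_of _ _ _ _ c_2_2_3_3_6 ⟨g_2_2_3_3_6_6, g_2_2_3_3_6_7_7⟩
theorem g_2_2_3_3_5 : Good1 sv [5, 3, 3, 2, 2] := good1_of _ _ _ _ c_2_2_3_3_5 ⟨g_2_2_3_3_5_5, g_2_2_3_3_5_6, g_2_2_3_3_5_7⟩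
theorem g_2_2_3_6_6_7 : Good1 sv [7, 6, 6, 3, 2, 2] := good1_of _ _ _ _ c_2_2_3_6_6_7 trivial
theorem g_2_2_3_6_7 : Good1 sv [7, 6, 3, 2, 2] := good1_of _ _ _ _ c_2_2_3_6_7 trivial
theorem g_2_2_3_5_5_6_6_6_7_7 : Good1 sv [7, 7, 6, 6, 6, 5, 5, 3, 2, 2] := good1_of _ _ _ _ c_2_2_3_5_5_6_6_6_7_7 trivial
theorem g_2_2_3_5_5_6_6_6_6 : Good1 sv [6, 6, 6, 6, 5, 5, 3, 2, 2] := good1_of _ _ _ _ c_2_2_3_5_5_6_6_6_6 trivial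
theorem g_2_2_3_5_5_6_6_7_7_7 : Good1 sv [7, 7, 7, 6, 6, 5, 5, 3, 2, 2] := good1_of _ _ _ _ c_2_2_3_5_5_6_6_7_7_7 trivial
theorem g_2_2_3_5_5_6_6_7_7 : Good1 sv [7, 7, 6, 6, 5, 5, 3, 2, 2] := good1_of _ _ _ _ c_2_2_3_5_5_6_6_7_7 g_2_2_3_5_5_6_6_7_7_7
theorem g_2_2_3_5_5_6_6_7_13 : Good1 sv [13, 7, 6, 6, 5, 5, 3, 2, 2] := good1_of _ _ _ _ c_2_2_3_5_5_6_6_7_13 trivial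
theorem g_2_2_3_5_5_6_6_7_11 : Good1 sv [11, 7, 6, 6, 5, 5, 3, 2, 2] := good1_of _ _ _ _ c_2_2_3_5_5_6_6_7_11 trivial
theorem g_2_2_3_5_5_6_6_6 : Good1 sv [6, 6, 6, 5, 5, 3, 2, 2] := good1_of _ _ _ _ c_2_2_3_5_5_6_6_6 ⟨g_2_2_3_5_5_6_6_6_6, g_2_2_3_5_5_6_6_6_7_7⟩
theorem g_2_2_3_5_5_6_6_7 : Good1 sv [7, 6, 6, 5, 5, 3, 2, 2] := good1_of _ _ _ _ c_2_2_3_5_5_6_6_7 ⟨g_2_2_3_5_5_6_6_7_7, g_2_2_3_5_5_6_6_7_11, g_2_2_3_5_5_6_6_7_13⟩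
theorem g_2_2_3_5_5_6_7_7_13 : Good1 sv [13, 7, 7, 6, 5, 5, 3, 2, 2] := good1_of _ _ _ _ c_2_2_3_5_5_6_7_7_13 trivial
theorem g_2_2_3_5_5_6_7_7_7 : Good1 sv [7, 7, 7, 6, 5, 5, 3, 2, 2] := good1_of _ _ _ _ c_2_2_3_5_5_6_7_7_7 trivial
theorem g_2_2_3_5_5_6_7_7_10 : Good1 sv [10, 7, 7, 6, 5, 5, 3, 2, 2] := good1_of _ _ _ _ c_2_2_3_5_5_6_7_7_10 trivial
theorem g_2_2_3_5_5_6_7_10_10 : Good1 sv [10, 10, 7, 6, 5, 5, 3, 2, 2] := good1_of _ _ _ _ c_2_2_3_5_5_6_7_10_10 trivial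
theorem g_2_2_3_5_5_6_7_13_13 : Good1 sv [13, 13, 7, 6, 5, 5, 3, 2, 2] := good1_of _ _ _ _ c_2_2_3_5_5_6_7_13_13 trivial
theorem g_2_2_3_5_5_6_7_7 : Good1 sv [7, 7, 6, 5, 5, 3, 2, 2] := good1_of _ _ _ _ c_2_2_3_5_5_6_7_7 ⟨g_2_2_3_5_5_6_7_7_7, g_2_2_3_5_5_6_7_7_10, g_2_2_3_5_5_6_7_7_13⟩
theorem g_2_2_3_5_5_6_7_11 : Good1 sv [11, 7, 6, 5, 5, 3, 2, 2] := good1_of _ _ _ _ c_2_2_3_5_5_6_7_11 trivial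
theorem g_2_2_3_5_5_6_7_10 : Good1 sv [10, 7, 6, 5, 5, 3, 2, 2] := good1_of _ _ _ _ c_2_2_3_5_5_6_7_10 g_2_2_3_5_5_6_7_10_10
theorem g_2_2_3_5_5_6_7_13 : Good1 sv [13, 7, 6, 5, 5, 3, 2, 2] := good1_of _ _ _ _ c_2_2_3_5_5_6_7_13 g_2_2_3_5_5_6_7_13_13
theorem g_2_2_3_5_5_6_6 : Good1 sv [6, 6, 5, 5, 3, 2, 2] := good1_of _ _ _ _ c_2_2_3_5_5_6_6 ⟨g_2_2_3_5_5_6_6_6, g_2_2_3_5_5_6_6_7⟩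
theorem g_2_2_3_5_5_6_10 : Good1 sv [10, 6, 5, 5, 3, 2, 2] := good1_of _ _ _ _ c_2_2_3_5_5_6_10 trivial
theorem g_2_2_3_5_5_6_7 : Good1 sv [7, 6, 5, 5, 3, 2, 2] := good1_of _ _ _ _ c_2_2_3_5_5_6_7 ⟨g_2_2_3_5_5_6_7_7, g_2_2_3_5_5_6_7_10, g_2_2_3_5_5_6_7_11, g_2_2_3_5_5_6_7_13⟩
theorem g_2_2_3_5_5_6 : Good1 sv [6, 5, 5, 3, 2, 2] := good1_of _ _ _ _ c_2_2_3_5_5_6 ⟨g_2_2_3_5_5_6_6, g_2_2_3_5_5_6_7, g_2_2_3_5_5_6_10⟩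
theorem g_2_2_3_5_5_7 : Good1 sv [7, 5, 5, 3, 2, 2] := good1_of _ _ _ _ c_2_2_3_5_5_7 trivial
theorem g_2_2_3_5_5_5 : Good1 sv [5, 5, 5, 3, 2, 2] := good1_of _ _ _ _ c_2_2_3_5_5_5 trivial
theorem g_2_2_3_5_6_6_6_7_7 : Good1 sv [7, 7, 6, 6, 6, 5, 3, 2, 2] := good1_of _ _ _ _ c_2_2_3_5_6_6_6_7_7 trivial
theorem g_2_2_3_5_6_6_6_7 : Good1 sv [7, 6, 6, 6, 5, 3, 2, 2] := good1_of _ _ _ _ c_2_2_3_5_6_6_6_7 g_2_2_3_5_6_6_6_7_7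
theorem g_2_2_3_5_6_6_6_6 : Good1 sv [6, 6, 6, 6, 5, 3, 2, 2] := good1_of _ _ _ _ c_2_2_3_5_6_6_6_6 trivial
theorem g_2_2_3_5_6_6_7_7_7 : Good1 sv [7, 7, 7, 6, 6, 5, 3, 2, 2] := good1_of _ _ _ _ c_2_2_3_5_6_6_7_7_7 trivial
theorem g_2_2_3_5_6_6_7_7_10 : Good1 sv [10, 7, 7, 6, 6, 5, 3, 2, 2] := good1_of _ _ _ _ c_2_2_3_5_6_6_7_7_10 trivial
theorem g_2_2_3_5_6_6_7_10 : Good1 sv [10, 7, 6, 6, 5, 3, 2, 2] := good1_of _ _ _ _ c_2_2_3_5_6_6_7_10 trivial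
theorem g_2_2_3_5_6_6_7_7 : Good1 sv [7, 7, 6, 6, 5, 3, 2, 2] := good1_of _ _ _ _ c_2_2_3_5_6_6_7_7 ⟨g_2_2_3_5_6_6_7_7_7, g_2_2_3_5_6_6_7_7_10⟩
theorem g_2_2_3_5_6_6_7 : Good1 sv [7, 6, 6, 5, 3, 2, 2] := good1_of _ _ _ _ c_2_2_3_5_6_6_7 ⟨g_2_2_3_5_6_6_7_7, g_2_2_3_5_6_6_7_10⟩
theorem g_2_2_3_5_6_6_10 : Good1 sv [10, 6, 6, 5, 3, 2, 2] := good1_of _ _ _ _ c_2_2_3_5_6_6_10 trivial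
theorem g_2_2_3_5_6_10_10 : Good1 sv [10, 10, 6, 5, 3, 2, 2] := good1_of _ _ _ _ c_2_2_3_5_6_10_10 trivial
theorem g_2_2_3_5_6_7_7_7_10 : Good1 sv [10, 7, 7, 7, 6, 5, 3, 2, 2] := good1_of _ _ _ _ c_2_2_3_5_6_7_7_7_10 trivial
theorem g_2_2_3_5_6_7_7_10_10 : Good1 sv [10, 10, 7, 7, 6, 5, 3, 2, 2] := good1_of _ _ _ _ c_2_2_3_5_6_7_7_10_10 trivial
theorem g_2_2_3_5_6_7_7_7 : Good1 sv [7, 7, 7, 6, 5, 3, 2, 2] := good1_of _ _ _ _ c_2_2_3_5_6_7_7_7 g_2_2_3_5_6_7_7_7_10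
theorem g_2_2_3_5_6_7_7_10 : Good1 sv [10, 7, 7, 6, 5, 3, 2, 2] := good1_of _ _ _ _ c_2_2_3_5_6_7_7_10 g_2_2_3_5_6_7_7_10_10
theorem g_2_2_3_5_6_7_7_13 : Good1 sv [13, 7, 7, 6, 5, 3, 2, 2] := good1_of _ _ _ _ c_2_2_3_5_6_7_7_13 trivial
theorem g_2_2_3_5_6_7_10_10 : Good1 sv [10, 10, 7, 6, 5, 3, 2, 2] := good1_of _ _ _ _ c_2_2_3_5_6_7_10_10 trivial
theorem g_2_2_3_5_6_7_10_11 : Good1 sv [11, 10, 7, 6, 5, 3, 2, 2] := good1_of _ _ _ _ c_2_2_3_5_6_7_10_11 trivial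
theorem g_2_2_3_5_6_7_13 : Good1 sv [13, 7, 6, 5, 3, 2, 2] := good1_of _ _ _ _ c_2_2_3_5_6_7_13 trivial
theorem g_2_2_3_5_6_7_11 : Good1 sv [11, 7, 6, 5, 3, 2, 2] := good1_of _ _ _ _ c_2_2_3_5_6_7_11 trivial
theorem g_2_2_3_5_6_7_7 : Good1 sv [7, 7, 6, 5, 3, 2, 2] := good1_of _ _ _ _ c_2_2_3_5_6_7_7 ⟨g_2_2_3_5_6_7_7_7, g_2_2_3_5_6_7_7_10, g_2_2_3_5_6_7_7_13⟩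
theorem g_2_2_3_5_6_6 : Good1 sv [6, 6, 5, 3, 2, 2] := good1_of _ _ _ _ c_2_2_3_5_6_6 ⟨g_2_2_3_5_6_6_6_6, g_2_2_3_5_6_6_7, g_2_2_3_5_6_6_6_7, g_2_2_3_5_6_6_10⟩
theorem g_2_2_3_5_6_7 : Good1 sv [7, 6, 5, 3, 2, 2] := good1_of _ _ _ _ c_2_2_3_5_6_7 ⟨g_2_2_3_5_6_7_7, g_2_2_3_5_6_7_10_10, g_2_2_3_5_6_7_11, g_2_2_3_5_6_7_10_11, g_2_2_3_5_6_7_13⟩
theorem g_2_2_3_5_6_10 : Good1 sv [10, 6, 5, 3, 2, 2] := good1_of _ _ _ _ c_2_2_3_5_6_10 g_2_2_3_5_6_10_10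
theorem g_2_2_3_5_7_7_7 : Good1 sv [7, 7, 7, 5, 3, 2, 2] := good1_of _ _ _ _ c_2_2_3_5_7_7_7 trivial
theorem g_2_2_3_5_7 : Good1 sv [7, 5, 3, 2, 2] := good1_of _ _ _ _ c_2_2_3_5_7 g_2_2_3_5_7_7_7
theorem g_2_2_3_5_5 : Good1 sv [5, 5, 3, 2, 2] := good1_of _ _ _ _ c_2_2_3_5_5 ⟨g_2_2_3_5_5_5, g_2_2_3_5_5_6, g_2_2_3_5_5_7⟩
theorem g_2_2_3_5_6 : Good1 sv [6, 5, 3, 2, 2] := good1_of _ _ _ _ c_2_2_3_5_6 ⟨g_2_2_3_5_6_6, g_2_2_3_5_6_7, g_2_2_3_5_6_10⟩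
theorem g_2_2_3_6 : Good1 sv [6, 3, 2, 2] := good1_of _ _ _ _ c_2_2_3_6 ⟨g_2_2_3_6_7, g_2_2_3_6_6_7⟩
theorem g_2_2_3_3 : Good1 sv [3, 3, 2, 2] := good1_of _ _ _ _ c_2_2_3_3 ⟨g_2_2_3_3_3_3, g_2_2_3_3_5, g_2_2_3_3_3_5, g_2_2_3_3_6, g_2_2_3_3_3_6_6, g_2_2_3_3_3_6_7⟩
theorem g_2_2_3 : Good1 sv [3, 2, 2] := good1_of _ _ _ _ c_2_2_3 ⟨g_2_2_3_3, g_2_2_3_5_5, g_2_2_3_6, g_2_2_3_5_6, g_2_2_3_5_7⟩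
theorem g_2_2_2 : Good1 sv [2, 2, 2] := good1_of _ _ _ _ c_2_2_2 ⟨g_2_2_2_2, g_2_2_2_3, g_2_2_2_5_5⟩
theorem g_2_5_5_5 : Good1 sv [5, 5, 5, 2] := good1_of _ _ _ _ c_2_5_5_5 trivial
theorem g_2_3_3_3_3_3_6 : Good1 sv [6, 3, 3, 3, 3, 3, 2] := good1_of _ _ _ _ c_2_3_3_3_3_3_6 trivial
theorem g_2_3_3_3_3_3_5 : Good1 sv [5, 3, 3, 3, 3, 3, 2] := good1_of _ _ _ _ c_2_3_3_3_3_3_5 trivial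
theorem g_2_3_3_3_3_6_6 : Good1 sv [6, 6, 3, 3, 3, 3, 2] := good1_of _ _ _ _ c_2_3_3_3_3_6_6 trivial
theorem g_2_3_3_3_3_5_5_6_6 : Good1 sv [6, 6, 5, 5, 3, 3, 3, 3, 2] := good1_of _ _ _ _ c_2_3_3_3_3_5_5_6_6 trivial
theorem g_2_3_3_3_3_5_5_6 : Good1 sv [6, 5, 5, 3, 3, 3, 3, 2] := good1_of _ _ _ _ c_2_3_3_3_3_5_5_6 g_2_3_3_3_3_5_5_6_6
theorem g_2_3_3_3_3_3 : Good1 sv [3, 3, 3, 3, 3, 2] := good1_of _ _ _ _ c_2_3_3_3_3_3 ⟨g_2_3_3_3_3_3_5, g_2_3_3_3_3_3_6⟩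
theorem g_2_3_3_3_6_6_6 : Good1 sv [6, 6, 6, 3, 3, 3, 2] := good1_of _ _ _ _ c_2_3_3_3_6_6_6 trivial
theorem g_2_3_3_3_6_7 : Good1 sv [7, 6, 3, 3, 3, 2] := good1_of _ _ _ _ c_2_3_3_3_6_7 trivial
theorem g_2_3_3_3_5_5_6_6_6_7 : Good1 sv [7, 6, 6, 6, 5, 5, 3, 3, 3, 2] := good1_of _ _ _ _ c_2_3_3_3_5_5_6_6_6_7 trivial
theorem g_2_3_3_3_5_5_6_6_7 : Good1 sv [7, 6, 6, 5, 5, 3, 3, 3, 2] := good1_of _ _ _ _ c_2_3_3_3_5_5_6_6_7 trivial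
theorem g_2_3_3_3_5_5_6_6_6 : Good1 sv [6, 6, 6, 5, 5, 3, 3, 3, 2] := good1_of _ _ _ _ c_2_3_3_3_5_5_6_6_6 g_2_3_3_3_5_5_6_6_6_7
theorem g_2_3_3_3_5_5_6_7_7 : Good1 sv [7, 7, 6, 5, 5, 3, 3, 3, 2] := good1_of _ _ _ _ c_2_3_3_3_5_5_6_7_7 trivial
theorem g_2_3_3_3_5_5_6_7 : Good1 sv [7, 6, 5, 5, 3, 3, 3, 2] := good1_of _ _ _ _ c_2_3_3_3_5_5_6_7 g_2_3_3_3_5_5_6_7_7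
theorem g_2_3_3_3_5_5_6_6 : Good1 sv [6, 6, 5, 5, 3, 3, 3, 2] := good1_of _ _ _ _ c_2_3_3_3_5_5_6_6 ⟨g_2_3_3_3_5_5_6_6_6, g_2_3_3_3_5_5_6_6_7⟩
theorem g_2_3_3_3_5_5_6 : Good1 sv [6, 5, 5, 3, 3, 3, 2] := good1_of _ _ _ _ c_2_3_3_3_5_5_6 ⟨g_2_3_3_3_5_5_6_6, g_2_3_3_3_5_5_6_7⟩
theorem g_2_3_3_3_3 : Good1 sv [3, 3, 3, 3, 2] := good1_of _ _ _ _ c_2_3_3_3_3 ⟨g_2_3_3_3_3_3, g_2_3_3_3_3_5_5_6, g_2_3_3_3_3_6_6⟩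
theorem g_2_3_3_3_5 : Good1 sv [5, 3, 3, 3, 2] := good1_of _ _ _ _ c_2_3_3_3_5 g_2_3_3_3_5_5_6
theorem g_2_3_3_6_6_6 : Good1 sv [6, 6, 6, 3, 3, 2] := good1_of _ _ _ _ c_2_3_3_6_6_6 trivial
theorem g_2_3_3_6_7 : Good1 sv [7, 6, 3, 3, 2] := good1_of _ _ _ _ c_2_3_3_6_7 trivial
theorem g_2_3_3_5_5_6_6_6_7_7 : Good1 sv [7, 7, 6, 6, 6, 5, 5, 3, 3, 2] := good1_of _ _ _ _ c_2_3_3_5_5_6_6_6_7_7 trivial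
theorem g_2_3_3_5_5_6_6_6_6 : Good1 sv [6, 6, 6, 6, 5, 5, 3, 3, 2] := good1_of _ _ _ _ c_2_3_3_5_5_6_6_6_6 trivial
theorem g_2_3_3_5_5_6_6_6_7 : Good1 sv [7, 6, 6, 6, 5, 5, 3, 3, 2] := good1_of _ _ _ _ c_2_3_3_5_5_6_6_6_7 g_2_3_3_5_5_6_6_6_7_7
theorem g_2_3_3_5_5_6_6_7_7 : Good1 sv [7, 7, 6, 6, 5, 5, 3, 3, 2] := good1_of _ _ _ _ c_2_3_3_5_5_6_6_7_7 trivial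
theorem g_2_3_3_5_5_6_6_7_19 : Good1 sv [19, 7, 6, 6, 5, 5, 3, 3, 2] := good1_of _ _ _ _ c_2_3_3_5_5_6_6_7_19 trivial
theorem g_2_3_3_5_5_6_6_7_11 : Good1 sv [11, 7, 6, 6, 5, 5, 3, 3, 2] := good1_of _ _ _ _ c_2_3_3_5_5_6_6_7_11 trivial
theorem g_2_3_3_5_5_6_6_7 : Good1 sv [7, 6, 6, 5, 5, 3, 3, 2] := good1_of _ _ _ _ c_2_3_3_5_5_6_6_7 ⟨g_2_3_3_5_5_6_6_7_7, g_2_3_3_5_5_6_6_7_11, g_2_3_3_5_5_6_6_7_19⟩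
theorem g_2_3_3_5_5_6_6_6 : Good1 sv [6, 6, 6, 5, 5, 3, 3, 2] := good1_of _ _ _ _ c_2_3_3_5_5_6_6_6 ⟨g_2_3_3_5_5_6_6_6_6, g_2_3_3_5_5_6_6_6_7⟩
theorem g_2_3_3_5_5_6_7_7_7 : Good1 sv [7, 7, 7, 6, 5, 5, 3, 3, 2] := good1_of _ _ _ _ c_2_3_3_5_5_6_7_7_7 trivial
theorem g_2_3_3_5_5_6_7_7 : Good1 sv [7, 7, 6, 5, 5, 3, 3, 2] := good1_of _ _ _ _ c_2_3_3_5_5_6_7_7 g_2_3_3_5_5_6_7_7_7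
theorem g_2_3_3_5_5_6_7_10 : Good1 sv [10, 7, 6, 5, 5, 3, 3, 2] := good1_of _ _ _ _ c_2_3_3_5_5_6_7_10 trivial
theorem g_2_3_3_5_5_6_7 : Good1 sv [7, 6, 5, 5, 3, 3, 2] := good1_of _ _ _ _ c_2_3_3_5_5_6_7 ⟨g_2_3_3_5_5_6_7_7, g_2_3_3_5_5_6_7_10⟩
theorem g_2_3_3_5_5_6_6 : Good1 sv [6, 6, 5, 5, 3, 3, 2] := good1_of _ _ _ _ c_2_3_3_5_5_6_6 ⟨g_2_3_3_5_5_6_6_6, g_2_3_3_5_5_6_6_7⟩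
theorem g_2_3_3_5_5_6 : Good1 sv [6, 5, 5, 3, 3, 2] := good1_of _ _ _ _ c_2_3_3_5_5_6 ⟨g_2_3_3_5_5_6_6, g_2_3_3_5_5_6_7⟩
theorem g_2_3_3_5_5_7 : Good1 sv [7, 5, 5, 3, 3, 2] := good1_of _ _ _ _ c_2_3_3_5_5_7 trivial
theorem g_2_3_3_5_5_5 : Good1 sv [5, 5, 5, 3, 3, 2] := good1_of _ _ _ _ c_2_3_3_5_5_5 trivial
theorem g_2_3_3_6 : Good1 sv [6, 3, 3, 2] := good1_of _ _ _ _ c_2_3_3_6 ⟨g_2_3_3_6_6_6, g_2_3_3_6_7⟩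
theorem g_2_3_3_3 : Good1 sv [3, 3, 3, 2] := good1_of _ _ _ _ c_2_3_3_3 ⟨g_2_3_3_3_3, g_2_3_3_3_5, g_2_3_3_3_6_6_6, g_2_3_3_3_6_7⟩
theorem g_2_3_6_6 : Good1 sv [6, 6, 3, 2] := good1_of _ _ _ _ c_2_3_6_6 trivial
theorem g_2_3_5_5_5_6 : Good1 sv [6, 5, 5, 5, 3, 2] := good1_of _ _ _ _ c_2_3_5_5_5_6 trivial
theorem g_2_3_5_5_5_5 : Good1 sv [5, 5, 5, 5, 3, 2] := good1_of _ _ _ _ c_2_3_5_5_5_5 trivial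
theorem g_2_3_5_5_6_6_6_7_7 : Good1 sv [7, 7, 6, 6, 6, 5, 5, 3, 2] := good1_of _ _ _ _ c_2_3_5_5_6_6_6_7_7 trivial
theorem g_2_3_5_5_6_6_6_6 : Good1 sv [6, 6, 6, 6, 5, 5, 3, 2] := good1_of _ _ _ _ c_2_3_5_5_6_6_6_6 trivial
theorem g_2_3_5_5_6_6_7_7 : Good1 sv [7, 7, 6, 6, 5, 5, 3, 2] := good1_of _ _ _ _ c_2_3_5_5_6_6_7_7 trivial
theorem g_2_3_5_5_6_6_7_10 : Good1 sv [10, 7, 6, 6, 5, 5, 3, 2] := good1_of _ _ _ _ c_2_3_5_5_6_6_7_10 trivial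
theorem g_2_3_5_5_6_6_6 : Good1 sv [6, 6, 6, 5, 5, 3, 2] := good1_of _ _ _ _ c_2_3_5_5_6_6_6 ⟨g_2_3_5_5_6_6_6_6, g_2_3_5_5_6_6_6_7_7⟩
theorem g_2_3_5_5_6_6_7 : Good1 sv [7, 6, 6, 5, 5, 3, 2] := good1_of _ _ _ _ c_2_3_5_5_6_6_7 ⟨g_2_3_5_5_6_6_7_7, g_2_3_5_5_6_6_7_10⟩
theorem g_2_3_5_5_6_7_7_7 : Good1 sv [7, 7, 7, 6, 5, 5, 3, 2] := good1_of _ _ _ _ c_2_3_5_5_6_7_7_7 trivial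
theorem g_2_3_5_5_6_7_7_10 : Good1 sv [10, 7, 7, 6, 5, 5, 3, 2] := good1_of _ _ _ _ c_2_3_5_5_6_7_7_10 trivial
theorem g_2_3_5_5_6_7_10 : Good1 sv [10, 7, 6, 5, 5, 3, 2] := good1_of _ _ _ _ c_2_3_5_5_6_7_10 trivial
theorem g_2_3_5_5_6_7_7 : Good1 sv [7, 7, 6, 5, 5, 3, 2] := good1_of _ _ _ _ c_2_3_5_5_6_7_7 ⟨g_2_3_5_5_6_7_7_7, g_2_3_5_5_6_7_7_10⟩
theorem g_2_3_5_5_6_7_11 : Good1 sv [11, 7, 6, 5, 5, 3, 2] := good1_of _ _ _ _ c_2_3_5_5_6_7_11 trivial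
theorem g_2_3_5_5_6_7 : Good1 sv [7, 6, 5, 5, 3, 2] := good1_of _ _ _ _ c_2_3_5_5_6_7 ⟨g_2_3_5_5_6_7_7, g_2_3_5_5_6_7_10, g_2_3_5_5_6_7_11⟩
theorem g_2_3_5_5_6_6 : Good1 sv [6, 6, 5, 5, 3, 2] := good1_of _ _ _ _ c_2_3_5_5_6_6 ⟨g_2_3_5_5_6_6_6, g_2_3_5_5_6_6_7⟩
theorem g_2_3_5_5_6_10 : Good1 sv [10, 6, 5, 5, 3, 2] := good1_of _ _ _ _ c_2_3_5_5_6_10 trivial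
theorem g_2_3_5_5_7_7_7 : Good1 sv [7, 7, 7, 5, 5, 3, 2] := good1_of _ _ _ _ c_2_3_5_5_7_7_7 trivial
theorem g_2_3_5_5_7 : Good1 sv [7, 5, 5, 3, 2] := good1_of _ _ _ _ c_2_3_5_5_7 g_2_3_5_5_7_7_7
theorem g_2_3_5_5_5 : Good1 sv [5, 5, 5, 3, 2] := good1_of _ _ _ _ c_2_3_5_5_5 ⟨g_2_3_5_5_5_5, g_2_3_5_5_5_6⟩
theorem g_2_3_5_5_6 : Good1 sv [6, 5, 5, 3, 2] := good1_of _ _ _ _ c_2_3_5_5_6 ⟨g_2_3_5_5_6_6, g_2_3_5_5_6_7, g_2_3_5_5_6_10⟩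
theorem g_2_3_5 : Good1 sv [5, 3, 2] := good1_of _ _ _ _ c_2_3_5 ⟨g_2_3_5_5_5, g_2_3_5_5_6, g_2_3_5_5_7⟩
theorem g_2_3_3 : Good1 sv [3, 3, 2] := good1_of _ _ _ _ c_2_3_3 ⟨g_2_3_3_3, g_2_3_3_5_5_5, g_2_3_3_6, g_2_3_3_5_5_6, g_2_3_3_5_5_7⟩
theorem g_2_2 : Good1 sv [2, 2] := good1_of _ _ _ _ c_2_2 ⟨g_2_2_2, g_2_2_3, g_2_2_5_5⟩
theorem g_2_5 : Good1 sv [5, 2] := good1_of _ _ _ _ c_2_5 g_2_5_5_5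
theorem g_2 : Good1 sv [2] := good1_of _ _ _ _ c_2 ⟨g_2_2, g_2_3_3, g_2_5, g_2_3_5, g_2_3_6_6⟩

theorem res_sv {g : ℕ} {M : Multiset (ℕ × ℕ)} (hA : DataA g M) (hB : DataB g M) : M.card ≤ 7 ∨ Res sv g M :=
  res_of g_2 hA hB

end CL.KC
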