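/-
Simple groups with at most eleven conjugacy classes: the sieve applied to the surviving class lists.
-/
import Cfsg.Agent.Known.KC.SieveS
import Cfsg.Agent.Known.KC.Sv

namespace CL.KC

theorem k0 : sieve ((sv.drop 0).take 25) [(5, 5, 242, []), (7, 7, 147, []), (7, 7, 147, []), (7, 7, 147, []), (7, 7, 147, []), (7, 7, 147, []), (5, 5, 176, []), (5, 5, 702, []), (5, 5, 176, []), (5, 5, 176, []), (5, 5, 176, []), (5, 5, 176, []), (5, 5, 176, []), (5, 5, 176, []), (5, 5, 176, []), (5, 5, 2174, []), (5, 5, 242, []), (5, 5, 419, []), (7, 7, 294, []), (7, 7, 294, []), (7, 7, 294, []), (5, 5, 304, []), (5, 5, 304, []), (5, 5, 304, []), (5, 5, 304, [])] = true := by decide +kernel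
theorem k25 : sieve ((sv.drop 25).take 6) [(5, 5, 304, []), (5, 5, 304, []), (5, 5, 304, []), (5, 5, 176, []), (7, 5, 201, [64]), (7, 5, 201, [64])] = true := by decide +kernel
theorem k31 : sieve ((sv.drop 31).take 2) [(7, 5, 201, [64]), (7, 5, 201, [36, 120, 105])] = true := by decide +kernel
theorem k33 : sieve ((sv.drop 33).take 2) [(7, 5, 201, [36, 126, 56]), (7, 5, 201, [36, 120, 126])] = true := by decide +kernel
theorem k35 : sieve ((sv.drop 35).take 5) [(5, 5, 3765, []), (5, 5, 419, []), (5, 5, 592, []), (5, 5, 592, []), (5, 5, 592, [])] = true := by decide +kernel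
theorem k40 : sieve ((sv.drop 40).take 1) [(7, 7, 275, [27, 8, 120, 48, 225, 210, 252, 189, 175, 112, 6, 56, 216, 36])] = true := by decide +kernel
theorem k41 : sieve ((sv.drop 41).take 1) [(7, 7, 275, [8, 120, 189, 252, 210, 168, 225, 36, 90, 112, 56, 48, 216, 63, 20, 6])] = true := by decide +kernel
theorem k42 : sieve ((sv.drop 42).take 25) [(7, 7, 13, []), (7, 7, 13, []), (7, 7, 13, []), (7, 7, 104, []), (7, 7, 508, []), (5, 5, 304, []), (5, 5, 124, []), (5, 5, 124, []), (5, 5, 124, []), (5, 5, 124, []), (17, 5, 542, []), (7, 5, 142, [42, 6]), (7, 5, 142, [42, 63, 6]), (17, 5, 128, []), (17, 5, 128, []), (17, 5, 128, []), (17, 5, 2044, []), (17, 5, 128, []), (17, 5, 128, []), (17, 5, 128, []), (17, 5, 128, []), (11, 5, 89, [33]), (11, 5, 89, [33]), (11, 5, 89, [33]), (11, 5, 89, [33])] = true := by decide +kernel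
theorem k67 : sieve ((sv.drop 67).take 25) [(11, 5, 89, [33]), (11, 5, 89, [33]), (11, 5, 89, [33]), (11, 5, 89, [33]), (5, 5, 161, [64]), (5, 5, 99, []), (5, 5, 99, []), (17, 17, 50, []), (7, 7, 78, [6]), (7, 7, 110, [27]), (7, 7, 312, []), (7, 7, 312, []), (5, 5, 242, []), (5, 5, 242, []), (5, 5, 242, []), (5, 5, 242, []), (5, 5, 242, []), (5, 5, 242, []), (7, 7, 78, [27]), (7, 7, 13, []), (7, 7, 13, []), (7, 7, 13, []), (7, 7, 13, []), (7, 5, 142, []), (7, 5, 142, [])] = true := by decide +kernel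
theorem k92 : sieve ((sv.drop 92).take 25) [(13, 13, 125, [40, 65]), (13, 13, 125, [12, 65]), (17, 5, 128, []), (11, 5, 89, [45]), (11, 5, 89, []), (13, 5, 171, []), (7, 7, 180, []), (7, 7, 1437, []), (5, 5, 171, []), (5, 5, 186, []), (5, 5, 419, []), (5, 5, 419, []), (5, 5, 419, []), (5, 5, 419, []), (5, 5, 419, []), (5, 5, 419, []), (5, 5, 19, []), (5, 5, 19, []), (5, 5, 19, []), (7, 7, 195, [8, 20, 50, 36, 6]), (5, 5, 186, []), (5, 5, 186, []), (5, 5, 8, []), (5, 5, 8, []), (7, 5, 142, [21, 105])] = true := by decide +kernel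
theorem k117 : sieve ((sv.drop 117).take 25) [(7, 7, 116, [6]), (7, 7, 116, [6]), (7, 7, 116, [6]), (7, 7, 116, [6]), (7, 7, 116, [6]), (7, 7, 116, [6]), (7, 7, 116, [6]), (7, 7, 116, [6]), (13, 5, 171, []), (7, 5, 302, [27, 280, 15]), (7, 7, 220, []), (7, 7, 135, []), (5, 5, 114, []), (5, 5, 279, []), (5, 5, 19, []), (5, 5, 171, []), (5, 5, 279, []), (5, 5, 161, [81]), (5, 5, 99, []), (5, 5, 99, []), (7, 7, 180, []), (7, 7, 23, []), (5, 5, 19, [9]), (5, 5, 114, []), (5, 5, 114, [])] = true := by decide +kernel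
theorem k142 : sieve ((sv.drop 142).take 25) [(5, 5, 242, []), (5, 5, 242, []), (7, 7, 135, []), (7, 7, 135, []), (7, 7, 23, []), (13, 5, 206, []), (7, 7, 78, [27]), (7, 7, 78, [27]), (5, 5, 19, [9]), (5, 5, 171, []), (5, 5, 171, []), (5, 5, 171, []), (5, 5, 19, []), (5, 5, 171, []), (5, 5, 19, [9]), (5, 5, 19, [9]), (5, 5, 19, []), (5, 5, 19, []), (7, 7, 23, []), (7, 7, 78, [27]), (7, 7, 78, [27]), (5, 5, 19, []), (5, 5, 419, []), (5, 5, 419, []), (5, 5, 19, [])] = true := by decide +kernel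
theorem k167 : sieve ((sv.drop 167).take 2) [(7, 7, 78, [27]), (13, 7, 34, [])] = true := by decide +kernel

theorem sv_end : Sv (sv.drop 169) := sieve_spec (c := []) (by decide +kernel)

theorem sv_sv : Sv sv := (sv_step k0 (sv_step k25 (sv_step k31 (sv_step k33 (sv_step k35 (sv_step k40 (sv_step k41 (sv_step k42 (sv_step k67 (sv_step k92 (sv_step k117 (sv_step k142 (sv_step k167 sv_end)))))))))))) : Sv (sv.drop 0))

end CL.KC
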